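import Groth.Agent.L27.EffDesc.Main
import Mathlib.AlgebraicGeometry.Morphisms.Etale

/-! # Inverse image along etale morphisms is restriction; base change along etale morphisms -/

universe u

open CategoryTheory CategoryTheory.Limits AlgebraicGeometry Opposite

set_option autoImplicit false
set_option backward.isDefEq.respectTransparency.types false
set_option linter.style.haveILetI false
set_option maxHeartbeats 1000000

noncomputable section

namespace Groth.L27.EffDesc

open Groth.L27.EtSite

attribute [local irreducible] el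

variable {T S : Scheme.{u}} (g : T ⟶ S) [Etale g]

/-- An etale scheme over the source, seen over the base. -/
abbrev shriek (W : T.Etale) : S.Etale :=
  @MorphismProperty.Over.mk _ _ EtCoh.etaleMP ⊤ _ W.left (W.hom ≫ g)
    (MorphismProperty.comp_mem (@Etale : MorphismProperty Scheme.{u}) _ _ W.prop ‹Etale g›)

theorem id_w (W : T.Etale) : 𝟙 W.left ≫ (shriek g W).hom = W.hom ≫ g := Category.id_comp _

/-- Restriction of sections. -/
def restr (G : EtDesc.Sh S) (W : T.Etale) (t : G.obj.obj (op (shriek g W))) :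
    ((EtDesc.pullSh g).obj G).obj.obj (op W) :=
  el g G (U := shriek g W) (𝟙 W.left) (id_w g W) t

theorem el_eq_restr (G : EtDesc.Sh S) {U : S.Etale} {W : T.Etale} (l : W.left ⟶ U.left)
    (hl : l ≫ U.hom = W.hom ≫ g) (s : G.obj.obj (op U)) :
    el g G l hl s = restr g G W (G.obj.map (MorphismProperty.Over.homMk l hl : shriek g W ⟶ U).op s) := by
  unfold restr
  refine Eq.trans ?_ (el_map_right g G (MorphismProperty.Over.homMk l hl : shriek g W ⟶ U) (𝟙 W.left) (id_w g W)
    ((congrArg (· ≫ U.hom) (Category.id_comp l)).trans hl) s).symm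
  exact el_congr g G _ _ (Category.id_comp l).symm s

/-- The map induced between restricted schemes. -/
abbrev shriekMap {W W' : T.Etale} (d : W' ⟶ W) : shriek g W' ⟶ shriek g W :=
  MorphismProperty.Over.homMk d.left
    ((Category.assoc _ _ _).symm.trans (congrArg (· ≫ g) (MorphismProperty.Over.w d)))

theorem restr_map (G : EtDesc.Sh S) {W W' : T.Etale} (d : W' ⟶ W) (t : G.obj.obj (op (shriek g W))) :
    ((EtDesc.pullSh g).obj G).obj.map d.op (restr g G W t) = restr g G W' (G.obj.map (shriekMap g d).op t) := by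
  have h₁ : (d.left ≫ 𝟙 W.left) ≫ (shriek g W).hom = W'.hom ≫ g :=
    (congrArg (· ≫ (shriek g W).hom) (Category.comp_id _)).trans (MorphismProperty.Over.w (shriekMap g d))
  have h₂ : (𝟙 W'.left ≫ (shriekMap g d).left) ≫ (shriek g W).hom = W'.hom ≫ g :=
    (congrArg (· ≫ (shriek g W).hom) (Category.id_comp _)).trans (MorphismProperty.Over.w (shriekMap g d))
  unfold restr
  exact (el_map_left g G d (𝟙 W.left) (id_w g W) h₁ t).trans
    ((el_congr g G h₁ h₂ ((Category.comp_id d.left).trans (Category.id_comp d.left).symm) t).trans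
      (el_map_right g G (shriekMap g d) (𝟙 W'.left) (id_w g W') h₂ t).symm)

theorem restr_injective (G : EtDesc.Sh S) (W : T.Etale) : Function.Injective (restr g G W) := by
  intro t t' e
  refine sect_ext G fun q => ?_
  have e' : el g G (U := shriek g W) (𝟙 W.left) (id_w g W) t = el g G (U := shriek g W) (𝟙 W.left) (id_w g W) t' := e
  unfold el at e'
  obtain ⟨V', b, v, hv, hb⟩ := DescCan.eq_near' g G (toBc g (U := shriek g W) (𝟙 W.left) (id_w g W)) q t t' e'
  exact ⟨V', b, v, hv.trans ((Scheme.Hom.comp_apply _ _ _).symm.trans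
    (congrArg (fun k : W.left ⟶ W.left => k q) (toBc_fst g (U := shriek g W) (𝟙 W.left) (id_w g W)))), hb⟩

/-- Descending maps between restricted schemes. -/
theorem exists_lift {W W' W'' : T.Etale} (d : W' ⟶ W) (d' : W'' ⟶ W) (e : shriek g W'' ⟶ shriek g W')
    (he : e ≫ shriekMap g d = shriekMap g d') : ∃ d₀ : W'' ⟶ W', d₀ ≫ d = d' ∧ shriekMap g d₀ = e := by
  have hee : e.left ≫ d.left = d'.left := congrArg (fun k => k.left) he
  have hw : e.left ≫ W'.hom = W''.hom :=
    (congrArg (e.left ≫ ·) (MorphismProperty.Over.w d).symm).trans ((Category.assoc _ _ _).symm.trans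
      ((congrArg (· ≫ W.hom) hee).trans (MorphismProperty.Over.w d')))
  exact ⟨MorphismProperty.Over.homMk e.left hw, MorphismProperty.Over.Hom.ext hee, MorphismProperty.Over.Hom.ext rfl⟩

theorem restr_surjective (G : EtDesc.Sh S) (W : T.Etale) : Function.Surjective (restr g G W) := by
  intro s
  let Q : ∀ (V : S.Etale), (V ⟶ shriek g W) → G.obj.obj (op V) → Prop := fun V c t =>
    ∀ (W' : T.Etale) (d : W' ⟶ W) (e : shriek g W' ⟶ V), e ≫ c = shriekMap g d →
      ((EtDesc.pullSh g).obj G).obj.map d.op s = restr g G W' (G.obj.map e.op t)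
  have hQmap : ∀ {V V' : S.Etale} (c : V ⟶ shriek g W) (k : V' ⟶ V) (t : G.obj.obj (op V)),
      Q V c t → Q V' (k ≫ c) (G.obj.map k.op t) := fun {V V'} c k t h W' d e he => by
    rw [h W' d (e ≫ k) ((Category.assoc _ _ _).trans he)]
    exact congrArg (restr g G W') (DescCan.map_map G.obj e k rfl t).symm
  let Sv : Sieve (shriek g W) :=
    { arrows := fun V c => ∃ t, Q V c t
      downward_closed := fun {V V'} c ⟨t, ht⟩ k => ⟨G.obj.map k.op t, hQmap c k t ht⟩ }
  have hu : ∀ {V : S.Etale} (c : V ⟶ shriek g W) (t t' : G.obj.obj (op V)), Q V c t → Q V c t' → t = t' := by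
    intro V c t t' ht ht'
    haveI : AlgebraicGeometry.Etale c.left := etale_left c
    let W' : T.Etale := @MorphismProperty.Over.mk _ _ EtCoh.etaleMP ⊤ _ V.left (c.left ≫ W.hom)
      (MorphismProperty.comp_mem (@AlgebraicGeometry.Etale : MorphismProperty Scheme.{u}) _ _ ‹_› W.prop)
    let d : W' ⟶ W := MorphismProperty.Over.homMk c.left rfl
    let e : shriek g W' ⟶ V := MorphismProperty.Over.homMk (𝟙 V.left)
      ((Category.id_comp _).trans ((MorphismProperty.Over.w c).symm.trans (Category.assoc _ _ _).symm))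
    have he : e ≫ c = shriekMap g d := MorphismProperty.Over.Hom.ext (show 𝟙 V.left ≫ c.left = c.left from Category.id_comp c.left)
    have h1 := restr_injective g G W' ((ht W' d e he).symm.trans (ht' W' d e he))
    let i : V ⟶ shriek g W' := MorphismProperty.Over.homMk (𝟙 V.left)
      ((Category.id_comp _).trans ((Category.assoc _ _ _).trans (MorphismProperty.Over.w c)))
    have hie : i ≫ e = 𝟙 V := MorphismProperty.Over.Hom.ext (show 𝟙 V.left ≫ 𝟙 V.left = 𝟙 V.left from Category.id_comp (𝟙 V.left))
    have h2 := congrArg (G.obj.map i.op) h1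
    rwa [DescCan.map_map _ i e hie, DescCan.map_map _ i e hie, DescCan.map_id', DescCan.map_id'] at h2
  have hloc : ∀ {W' : T.Etale} (d : W' ⟶ W) {U : S.Etale} (l : W'.left ⟶ U.left) (hl : l ≫ U.hom = W'.hom ≫ g)
      (t : G.obj.obj (op U)), ((EtDesc.pullSh g).obj G).obj.map d.op s = el g G l hl t →
      Sv.arrows (shriekMap g d) := fun {W'} d {U} l hl t ht =>
    ⟨G.obj.map (MorphismProperty.Over.homMk l hl : shriek g W' ⟶ U).op t, fun W'' d' e he => by
      obtain ⟨d₀, hd₀, he'⟩ := exists_lift g d d' e he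
      rw [← DescCan.map_map _ d₀ d hd₀, ht, el_eq_restr, restr_map, he']⟩
  have hS : Sv ∈ S.smallEtaleTopology (shriek g W) := by
    refine (mem_topology_iff Sv).2 fun q => ?_
    obtain ⟨W', d, q', U, l, hl, t, hd, ht⟩ := exists_el g G s q
    exact ⟨shriek g W', shriekMap g d, q', hloc d l hl t ht, hd⟩
  have hsheaf := ((isSheaf_iff_isSheaf_of_type _ _).1 G.property) Sv hS
  let x : Presieve.FamilyOfElements G.obj Sv.arrows := fun V c hc => hc.choose
  have hx : x.Compatible := by
    rw [Presieve.compatible_iff_sieveCompatible]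
    intro V V' c k hc
    exact hu _ _ _ (Sv.downward_closed hc k).choose_spec (hQmap c k _ hc.choose_spec)
  refine ⟨hsheaf.amalgamate x hx, ?_⟩
  refine sect_ext _ fun q => ?_
  obtain ⟨W', d, q', U, l, hl, t, hd, ht⟩ := exists_el g G s q
  refine ⟨W', d, q', hd, ?_⟩
  have hmem : Sv.arrows (shriekMap g d) := hloc d l hl t ht
  rw [restr_map, hsheaf.valid_glue hx _ hmem]
  have := hmem.choose_spec W' d (𝟙 _) (Category.id_comp _)
  rw [DescCan.map_id'] at this
  exact this.symm

theorem bijective_restr (G : EtDesc.Sh S) (W : T.Etale) : Function.Bijective (restr g G W) :=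
  ⟨restr_injective g G W, restr_surjective g G W⟩

omit [Etale g] in
/-- Isomorphic schemes have the same sections. -/
theorem bijective_map_of_isIso_left (G : EtDesc.Sh S) {A B : S.Etale} (a : A ⟶ B) [IsIso a.left] :
    Function.Bijective (G.obj.map a.op) := by
  let b : B ⟶ A := MorphismProperty.Over.homMk (inv a.left) ((IsIso.inv_comp_eq a.left).2 (MorphismProperty.Over.w a).symm)
  have hab : a ≫ b = 𝟙 _ := MorphismProperty.Over.Hom.ext (show a.left ≫ inv a.left = 𝟙 A.left from IsIso.hom_inv_id a.left)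
  have hba : b ≫ a = 𝟙 _ := MorphismProperty.Over.Hom.ext (show inv a.left ≫ a.left = 𝟙 B.left from IsIso.inv_hom_id a.left)
  exact ⟨fun x y e => by
      have := congrArg (G.obj.map b.op) e
      rwa [DescCan.map_map _ b a hba, DescCan.map_map _ b a hba, DescCan.map_id', DescCan.map_id'] at this,
    fun y => ⟨G.obj.map b.op y, (DescCan.map_map _ a b hab y).trans (DescCan.map_id' _ _)⟩⟩

section BaseChange

variable {X Y X' Y' : Scheme.{u}} {f : X ⟶ Y} {g : Y' ⟶ Y} [Etale g] {f' : X' ⟶ Y'} {g' : X' ⟶ X}
  (h : IsPullback g' f' f g)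

/-- The comparison of the restricted preimage with the preimage of the restriction. -/
def cmpL (W : Y'.Etale) : ((EtCoh.bc f').obj W).left ⟶ ((EtCoh.bc f).obj (shriek g W)).left :=
  pullback.lift (pullback.fst W.hom f') (pullback.snd W.hom f' ≫ g')
    (((Category.assoc _ _ _).symm.trans ((congrArg (· ≫ g) pullback.condition).trans
      ((Category.assoc _ _ _).trans ((congrArg (_ ≫ ·) h.w.symm).trans (Category.assoc _ _ _).symm)))))

theorem cmpL_w (W : Y'.Etale) :
    cmpL h W ≫ ((EtCoh.bc f).obj (shriek g W)).hom = ((EtCoh.bc f').obj W).hom ≫ g' := pullback.lift_snd _ _ _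

theorem cmpL_fst (W : Y'.Etale) :
    cmpL h W ≫ pullback.fst (shriek g W).hom f = pullback.fst W.hom f' ≫ 𝟙 W.left :=
  (pullback.lift_fst _ _ _).trans (Category.comp_id _).symm

theorem isIso_cmpL (W : Y'.Etale) : IsIso (cmpL h W) := by
  have hp : IsPullback (pullback.fst W.hom f') (pullback.snd W.hom f' ≫ g') (W.hom ≫ g) f :=
    ((IsPullback.of_hasPullback W.hom f').flip.paste_horiz h).flip
  have : cmpL h W = hp.isoPullback.hom := pullback.hom_ext
    ((pullback.lift_fst _ _ _).trans hp.isoPullback_hom_fst.symm)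
    ((pullback.lift_snd _ _ _).trans hp.isoPullback_hom_snd.symm)
  rw [this]
  infer_instance

include h in
/-- Pushforwards commute with base change along etale morphisms. -/
theorem isIso_baseChange0Sh_of_etale (F : EtDesc.Sh X) : IsIso (EtBC.baseChange0Sh f g f' g' h.w F) := by
  haveI : Etale g' := MorphismProperty.of_isPullback (P := @AlgebraicGeometry.Etale) h.flip ‹Etale g›
  haveI : ∀ W, IsIso (((sheafToPresheaf _ _).map (EtBC.baseChange0Sh f g f' g' h.w F)).app W) := fun ⟨W⟩ => by
    refine (CategoryTheory.isIso_iff_bijective _).2 ?_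
    let a : shriek g' ((EtCoh.bc f').obj W) ⟶ (EtCoh.bc f).obj (shriek g W) :=
      MorphismProperty.Over.homMk (cmpL h W) (cmpL_w h W)
    haveI : IsIso a.left := isIso_cmpL h W
    have hbij := bijective_map_of_isIso_left F a
    have key : ∀ t : F.obj.obj (op ((EtCoh.bc f).obj (shriek g W))),
        (EtBC.baseChange0Sh f g f' g' h.w F).hom.app (op W) (restr g ((EtDesc.pushSh f).obj F) W t) =
        restr g' F ((EtCoh.bc f').obj W) (F.obj.map a.op t) := fun t =>
      (baseChange0Sh_el f g f' g' h.w F (V := shriek g W) (𝟙 W.left) (id_w g W) (cmpL h W) (cmpL_w h W)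
        (cmpL_fst h W) t).trans (el_eq_restr g' F (cmpL h W) (cmpL_w h W) t)
    refine ⟨fun x y e => ?_, fun y => ?_⟩
    · obtain ⟨x, rfl⟩ := restr_surjective g _ W x
      obtain ⟨y, rfl⟩ := restr_surjective g _ W y
      exact congrArg _ (hbij.1 (restr_injective g' F _ (((key x).symm.trans e).trans (key y))))
    · obtain ⟨y, rfl⟩ := restr_surjective g' F _ y
      obtain ⟨x, rfl⟩ := hbij.2 y
      exact ⟨_, key x⟩
  haveI : IsIso ((sheafToPresheaf _ _).map (EtBC.baseChange0Sh f g f' g' h.w F)) := NatIso.isIso_of_isIso_app _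
  exact isIso_of_reflects_iso _ (sheafToPresheaf _ _)

end BaseChange

omit [Etale g] in
/-- Effective descent along etale surjections. -/
theorem isEffective_of_etale [Surjective g] [Etale g] (F' : EtDesc.Sh T)
    (φ : (EtDesc.pullSh (pullback.fst g g)).obj F' ≅ (EtDesc.pullSh (pullback.snd g g)).obj F')
    (hφ : EtDesc.IsCocycle F' φ) : EtDesc.IsEffective g F' φ := by
  haveI : IsIso (bc₁ g F') := isIso_baseChange0Sh_of_etale (IsPullback.of_hasPullback g g) F'
  haveI : IsIso (bc₂ g F') := isIso_baseChange0Sh_of_etale (isPullback_triple g) _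
  exact isEffective_of_baseChange g F' φ hφ

end Groth.L27.EffDesc
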