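import Groth.Agent.L27.EffDesc.Main
import Groth.Agent.L27.BigSets.ProperBC

/-! # Effective descent along proper and integral surjections -/

universe u

open CategoryTheory CategoryTheory.Limits AlgebraicGeometry Opposite

set_option autoImplicit false
set_option backward.isDefEq.respectTransparency.types false
set_option linter.style.haveILetI false

namespace Groth.L27.EffDesc

variable {X' X : Scheme.{u}} (f : X' ⟶ X) [Surjective f] (F' : EtDesc.Sh X')
  (φ : (EtDesc.pullSh (pullback.fst f f)).obj F' ≅ (EtDesc.pullSh (pullback.snd f f)).obj F')

/-- Effective descent along surjective proper morphisms. -/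
theorem isEffective_of_proper [IsProper f] (hφ : EtDesc.IsCocycle F' φ) : EtDesc.IsEffective f F' φ := by
  haveI : IsIso (bc₁ f F') := BigSets.isIso_baseChange0Sh (IsPullback.of_hasPullback f f) F'
  haveI : IsProper (pullback.fst f f) := MorphismProperty.pullback_fst (P := @IsProper) f f ‹IsProper f›
  haveI : IsProper (pullback.fst f f ≫ f) := MorphismProperty.comp_mem _ _ _ inferInstance inferInstance
  haveI : IsIso (bc₂ f F') := BigSets.isIso_baseChange0Sh (isPullback_triple f) _
  exact isEffective_of_baseChange f F' φ hφ

/-- Effective descent along surjective integral morphisms. -/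
theorem isEffective_of_integral [IsIntegralHom f] (hφ : EtDesc.IsCocycle F' φ) : EtDesc.IsEffective f F' φ := by
  haveI : IsIso (bc₁ f F') := EtSite.BC.isIso_baseChange0Sh (IsPullback.of_hasPullback f f) F'
  haveI : IsIntegralHom (pullback.fst f f) := MorphismProperty.pullback_fst (P := @IsIntegralHom) f f ‹IsIntegralHom f›
  haveI : IsIntegralHom (pullback.fst f f ≫ f) := MorphismProperty.comp_mem _ _ _ inferInstance inferInstance
  haveI : IsIso (bc₂ f F') := EtSite.BC.isIso_baseChange0Sh (isPullback_triple f) _
  exact isEffective_of_baseChange f F' φ hφ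

end Groth.L27.EffDesc
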