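import Groth.Agent.L27.EffDesc.Comp
import Groth.Agent.L27.EffDesc.EtaleBC
import Groth.Agent.L27.EffDesc.Proper
import Groth.Agent.L20.QfRefine.Fppf
import Mathlib.AlgebraicGeometry.Morphisms.Etale
import Mathlib.AlgebraicGeometry.Morphisms.UniversallyOpen

/-! # Effective descent along fppf coverings -/

universe u

open CategoryTheory CategoryTheory.Limits AlgebraicGeometry Opposite

set_option autoImplicit false
set_option backward.isDefEq.respectTransparency.types false
set_option linter.style.haveILetI false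
set_option maxHeartbeats 800000

noncomputable section

namespace Groth.L27.EffDesc

/-- Surjective universally open morphisms are universally submersive. -/
theorem univSubmersive_of_universallyOpen {P A : Scheme.{u}} (q : P ⟶ A) [UniversallyOpen q] [Surjective q] :
    SGA1.UnivSubmersive q := by
  intro X' Y' i₁ i₂ f' sq
  have : UniversallyOpen f' := MorphismProperty.of_isPullback sq.flip ‹UniversallyOpen q›
  have : Surjective f' := MorphismProperty.of_isPullback sq.flip ‹Surjective q›
  exact f'.isOpenMap.isQuotientMap f'.continuous f'.surjective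

/-- A coproduct of integral morphisms is integral. -/
theorem isIntegralHom_sigmaMap {J : Type u} {S U : J → Scheme.{u}} (π : ∀ j, S j ⟶ U j) [∀ j, IsIntegralHom (π j)] :
    IsIntegralHom (Limits.Sigma.map π) := by
  refine IsZariskiLocalAtTarget.of_openCover (P := @IsIntegralHom) (sigmaOpenCover U) fun j => ?_
  have w : Sigma.ι S j ≫ Limits.Sigma.map π = π j ≫ Sigma.ι U j := Sigma.ι_map π j
  have hp : IsPullback (π j) (Sigma.ι S j) (Sigma.ι U j) (Limits.Sigma.map π) := by
    refine IsOpenImmersion.isPullback _ _ _ _ w (TopologicalSpace.Opens.ext (Set.ext fun z => ?_))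
    obtain ⟨k, p, rfl⟩ : ∃ k p, Sigma.ι S k p = z := (sigmaOpenCover S).exists_eq z
    constructor
    · rintro ⟨x, hx⟩
      have hp' : Sigma.ι U k (π k p) = Limits.Sigma.map π (Sigma.ι S k p) := by
        rw [← Scheme.Hom.comp_apply, ← Scheme.Hom.comp_apply, Sigma.ι_map π k]
      obtain rfl : k = j := by
        by_contra hne
        exact (disjoint_opensRange_sigmaι U k j hne).le_bot (x := Sigma.ι U k (π k p)) ⟨⟨_, rfl⟩, ⟨x, hx.trans hp'.symm⟩⟩
      exact ⟨p, rfl⟩
    · rintro ⟨q, hq⟩
      refine ⟨π j q, ?_⟩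
      rw [← hq, ← Scheme.Hom.comp_apply, ← Scheme.Hom.comp_apply, w]
  show IsIntegralHom (pullback.snd (Limits.Sigma.map π) (Sigma.ι U j))
  rw [← hp.flip.isoPullback_inv_snd]
  exact MorphismProperty.comp_mem (@IsIntegralHom : MorphismProperty Scheme.{u}) _ _ inferInstance (inferInstanceAs (IsIntegralHom (π j)))

/-- fppf coverings are morphisms of effective descent for etale sheaves of sets. -/
theorem isEffective_of_fppf {X' X : Scheme.{u}} (f : X' ⟶ X) [Surjective f] [Flat f]
    [LocallyOfFinitePresentation f] (F' : EtDesc.Sh X')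
    (φ : (EtDesc.pullSh (pullback.fst f f)).obj F' ≅ (EtDesc.pullSh (pullback.snd f f)).obj F')
    (hφ : EtDesc.IsCocycle F' φ) : EtDesc.IsEffective f F' φ := by
  let 𝒰 := X.affineCover
  have key : ∀ j, ∃ (S' : Scheme.{u}) (π : S' ⟶ 𝒰.X j), Surjective π ∧ IsFinite π ∧
      LocallyOfFinitePresentation π ∧ ∀ y : S', ∃ (V : S'.Opens) (h : ↑V ⟶ pullback f (𝒰.f j)),
        y ∈ V ∧ h ≫ pullback.snd f (𝒰.f j) = V.ι ≫ π := fun j => by
    haveI : Flat (pullback.snd f (𝒰.f j)) := MorphismProperty.pullback_snd (P := @Flat) _ _ ‹_›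
    haveI : LocallyOfFinitePresentation (pullback.snd f (𝒰.f j)) :=
      MorphismProperty.pullback_snd (P := @LocallyOfFinitePresentation) _ _ ‹_›
    haveI : Surjective (pullback.snd f (𝒰.f j)) := MorphismProperty.pullback_snd (P := @Surjective) _ _ ‹_›
    exact L20.QfRefine.exists_finite_dominating (pullback.snd f (𝒰.f j))
  choose S π hsurj hfin _ hloc using key
  choose W k hyW hk using hloc
  let U : 𝒰.I₀ → Scheme.{u} := 𝒰.X
  let e : (∐ U) ⟶ X := Sigma.desc 𝒰.f
  let b : (∐ S) ⟶ ∐ U := Limits.Sigma.map π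
  let 𝒲 : ∀ j, (S j).OpenCover := fun j => Scheme.openCoverOfIsOpenCover _ (W j)
    (TopologicalSpace.Opens.ext (Set.eq_univ_of_forall fun y => by simpa using ⟨y, hyW j y⟩))
  let ι : (Σ j, S j) → Scheme.{u} := fun p => W p.1 p.2
  let a : (∐ ι) ⟶ ∐ S := Sigma.desc fun p => (W p.1 p.2).ι ≫ Sigma.ι S p.1
  let g : (∐ ι) ⟶ X' := Sigma.desc fun p => k p.1 p.2 ≫ pullback.fst f (𝒰.f p.1)
  have hg : g ≫ f = a ≫ b ≫ e := by
    refine Sigma.hom_ext _ _ fun p => ?_
    simp only [g, a, b, e, U, Sigma.ι_desc_assoc, Category.assoc, pullback.condition, reassoc_of% (hk p.1 p.2),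
      Sigma.ι_map_assoc, Sigma.ι_desc]
  haveI : Etale a := IsZariskiLocalAtSource.sigmaDesc (P := @Etale) fun p => inferInstance
  haveI : Surjective a := ⟨fun z => by
    obtain ⟨j, y, rfl⟩ : ∃ j y, Sigma.ι S j y = z := (sigmaOpenCover S).exists_eq z
    refine ⟨Sigma.ι ι ⟨j, y⟩ ⟨y, hyW j y⟩, ?_⟩
    rw [← Scheme.Hom.comp_apply, Sigma.ι_desc]
    rfl⟩
  haveI : Etale e := IsZariskiLocalAtSource.sigmaDesc (P := @Etale) fun j => inferInstance
  haveI : Surjective e := ⟨fun x => by
    obtain ⟨j, y, rfl⟩ := 𝒰.exists_eq x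
    refine ⟨Sigma.ι U j y, ?_⟩
    rw [← Scheme.Hom.comp_apply, Sigma.ι_desc]⟩
  haveI : ∀ j, IsIntegralHom (π j) := fun j => by haveI := hfin j; infer_instance
  haveI : IsIntegralHom b := isIntegralHom_sigmaMap π
  haveI : Surjective b := ⟨fun z => by
    obtain ⟨j, y, rfl⟩ : ∃ j y, Sigma.ι U j y = z := (sigmaOpenCover U).exists_eq z
    obtain ⟨x, rfl⟩ := (hsurj j).surj y
    refine ⟨Sigma.ι S j x, ?_⟩
    rw [← Scheme.Hom.comp_apply, Sigma.ι_map, Scheme.Hom.comp_apply]⟩
  have hbe : SGA1.UnivSubmersive (b ≫ e) := by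
    haveI : SGA1.UnivSubmersive.{u}.IsStableUnderComposition :=
      MorphismProperty.IsStableUnderComposition.universally (hP := ⟨fun f g hf hg => hg.comp hf⟩)
    exact MorphismProperty.comp_mem _ _ _ (TopInv.univSubmersive_of_universallyClosed b)
      (univSubmersive_of_universallyOpen e)
  have hh : SGA1.UnivSubmersive (a ≫ b ≫ e) := by
    haveI : SGA1.UnivSubmersive.{u}.IsStableUnderComposition :=
      MorphismProperty.IsStableUnderComposition.universally (hP := ⟨fun f g hf hg => hg.comp hf⟩)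
    exact MorphismProperty.comp_mem _ _ _ (univSubmersive_of_universallyOpen a) hbe
  have hbe' : ∀ (G : EtDesc.Sh (∐ S)) (χ : (EtDesc.pullSh (pullback.fst (b ≫ e) (b ≫ e))).obj G ≅
      (EtDesc.pullSh (pullback.snd (b ≫ e) (b ≫ e))).obj G), EtDesc.IsCocycle G χ →
        EtDesc.IsEffective (b ≫ e) G χ := fun G χ hχ =>
    isEffective_comp b e rfl G χ (TopInv.univSubmersive_of_universallyClosed b)
      (fun χ hχ => isEffective_of_integral b G χ hχ) (fun G χ hχ => isEffective_of_etale e G χ hχ) hχ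
  exact isEffective_of_refinement F' φ g hg hh hφ fun G χ hχ =>
    isEffective_comp a (b ≫ e) rfl G χ (univSubmersive_of_universallyOpen a)
      (fun χ hχ => isEffective_of_etale a G χ hχ) hbe' hχ

end Groth.L27.EffDesc
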