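import Groth.Agent.L27.EffDesc.Elements
import Groth.Agent.L27.EtSite.DescSubsheaf

/-! # Effective descent from base change isomorphisms -/

universe u

open CategoryTheory CategoryTheory.Limits AlgebraicGeometry Opposite

set_option autoImplicit false
set_option backward.isDefEq.respectTransparency.types false
set_option linter.style.haveILetI false

set_option maxHeartbeats 800000

noncomputable section

namespace Groth.L27.EffDesc

open Groth.L27.EtSite

section Generic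

variable {C : Type*} [Category C] {J : GrothendieckTopology C} {P Q : Sheaf J (Type (u + 1))}

theorem app_nat (χ : P ⟶ Q) {U V : C} (k : V ⟶ U) {x : P.obj.obj (op U)} {y : P.obj.obj (op V)}
    (h : P.obj.map k.op x = y) : χ.hom.app (op V) y = Q.obj.map k.op (χ.hom.app (op U) x) := by
  rw [← h]
  exact NatTrans.naturality_apply χ.hom k.op x

theorem app_inv_cancel (e : P ≅ Q) {U : C} {x : P.obj.obj (op U)} {y : Q.obj.obj (op U)}
    (h : e.hom.hom.app (op U) x = y) : e.inv.hom.app (op U) y = x := by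
  rw [← h]
  exact congrArg (fun χ => χ.hom.app (op U) x) e.hom_inv_id

theorem app_comp {R : Sheaf J (Type (u + 1))} (χ : P ⟶ Q) (ξ : Q ⟶ R) (U : C) (x : P.obj.obj (op U)) :
    (χ ≫ ξ).hom.app (op U) x = ξ.hom.app (op U) (χ.hom.app (op U) x) := rfl

theorem inv_hom_app (e : P ≅ Q) (U : C) (y : Q.obj.obj (op U)) : e.hom.hom.app (op U) (e.inv.hom.app (op U) y) = y :=
  congrArg (fun χ => χ.hom.app (op U) y) e.inv_hom_id

end Generic

section SecMap

variable {X' X Z : Scheme.{u}} (f : X' ⟶ X) (h : Z ⟶ X) (P : EtDesc.Sh X') (Q : EtDesc.Sh Z)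

/-- A morphism between direct images given on sections. -/
def secMap (A : ∀ V : X.Etale, P.obj.obj (op ((EtCoh.bc f).obj V)) → Q.obj.obj (op ((EtCoh.bc h).obj V)))
    (hA : ∀ {V W : X.Etale} (c : W ⟶ V) t,
      A W (P.obj.map ((EtCoh.bc f).map c).op t) = Q.obj.map ((EtCoh.bc h).map c).op (A V t)) :
    (EtDesc.pushSh f).obj P ⟶ (EtDesc.pushSh h).obj Q :=
  ⟨{ app := fun V => TypeCat.ofHom fun (t : ((EtDesc.pushSh f).obj P).obj.obj V) => A V.unop t
     naturality := fun V W c => by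
      apply ConcreteCategory.hom_ext
      intro t
      exact hA c.unop t }⟩

theorem secMap_app (A : ∀ V : X.Etale, P.obj.obj (op ((EtCoh.bc f).obj V)) → Q.obj.obj (op ((EtCoh.bc h).obj V)))
    (hA) (V : X.Etale) (t) : (secMap f h P Q A hA).hom.app (op V) t = A V t := rfl

theorem secMap_eq {F : EtDesc.Sh X} (ι : F ⟶ (EtDesc.pushSh f).obj P)
    (A B : ∀ V : X.Etale, P.obj.obj (op ((EtCoh.bc f).obj V)) → Q.obj.obj (op ((EtCoh.bc h).obj V))) (hA) (hB)
    (e : ι ≫ secMap f h P Q A hA = ι ≫ secMap f h P Q B hB) (V : X.Etale) (s : F.obj.obj (op V)) :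
    A V (ι.hom.app (op V) s) = B V (ι.hom.app (op V) s) :=
  congrArg (fun χ => χ.hom.app (op V) s) e

end SecMap

variable {X' X : Scheme.{u}} (f : X' ⟶ X)


theorem p₂_comp : (pullback.snd f f) ≫ f = (pullback.fst f f ≫ f) := pullback.condition.symm

/-- A projection of the double fibre product over an etale scheme of the base. -/
def dn (π : EtDesc.X2 f ⟶ X') (w : π ≫ f = (pullback.fst f f ≫ f)) (V : X.Etale) :
    ((EtCoh.bc (pullback.fst f f ≫ f)).obj V).left ⟶ ((EtCoh.bc f).obj V).left :=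
  pullback.lift (pullback.fst V.hom (pullback.fst f f ≫ f)) (pullback.snd V.hom (pullback.fst f f ≫ f) ≫ π)
    (pullback.condition.trans ((congrArg (_ ≫ ·) w.symm).trans (Category.assoc _ _ _).symm))

theorem dn_w (π : EtDesc.X2 f ⟶ X') (w : π ≫ f = (pullback.fst f f ≫ f)) (V : X.Etale) :
    dn f π w V ≫ ((EtCoh.bc f).obj V).hom = ((EtCoh.bc (pullback.fst f f ≫ f)).obj V).hom ≫ π :=
  pullback.lift_snd _ _ _

theorem dn_fst (π : EtDesc.X2 f ⟶ X') (w : π ≫ f = (pullback.fst f f ≫ f)) (V : X.Etale) :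
    dn f π w V ≫ pullback.fst V.hom f = pullback.fst V.hom (pullback.fst f f ≫ f) :=
  pullback.lift_fst _ _ _

theorem dn_nat (π : EtDesc.X2 f ⟶ X') (w : π ≫ f = (pullback.fst f f ≫ f)) {V W : X.Etale} (c : W ⟶ V) :
    ((EtCoh.bc (pullback.fst f f ≫ f)).map c).left ≫ dn f π w V = dn f π w W ≫ ((EtCoh.bc f).map c).left := by
  refine pullback.hom_ext ?_ ?_
  · refine (Category.assoc _ _ _).trans ((congrArg (_ ≫ ·) (dn_fst f π w V)).trans ((map_fst (pullback.fst f f ≫ f) c).trans ?_))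
    refine Eq.trans ?_ (Category.assoc _ _ _).symm
    refine Eq.trans ?_ (congrArg (dn f π w W ≫ ·) (map_fst f c)).symm
    exact (congrArg (· ≫ c.left) (dn_fst f π w W)).symm.trans (Category.assoc _ _ _)
  · refine (Category.assoc _ _ _).trans ((congrArg (_ ≫ ·) (dn_w f π w V)).trans ?_)
    refine (Category.assoc _ _ _).symm.trans ((congrArg (· ≫ π) (MorphismProperty.Over.w ((EtCoh.bc (pullback.fst f f ≫ f)).map c))).trans ?_)
    refine Eq.trans ?_ (Category.assoc _ _ _).symm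
    exact (dn_w f π w W).symm.trans (congrArg (dn f π w W ≫ ·) (MorphismProperty.Over.w ((EtCoh.bc f).map c))).symm

/-- The first projection over an etale scheme of the base. -/
abbrev dn₁ (V : X.Etale) : ((EtCoh.bc (pullback.fst f f ≫ f)).obj V).left ⟶ ((EtCoh.bc f).obj V).left := dn f (pullback.fst f f) rfl V

/-- The second projection over an etale scheme of the base. -/
abbrev dn₂ (V : X.Etale) : ((EtCoh.bc (pullback.fst f f ≫ f)).obj V).left ⟶ ((EtCoh.bc f).obj V).left := dn f (pullback.snd f f) (p₂_comp f) V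

theorem dn₁_w (V : X.Etale) : dn₁ f V ≫ ((EtCoh.bc f).obj V).hom = ((EtCoh.bc (pullback.fst f f ≫ f)).obj V).hom ≫ (pullback.fst f f) :=
  dn_w f (pullback.fst f f) rfl V

theorem dn₂_w (V : X.Etale) : dn₂ f V ≫ ((EtCoh.bc f).obj V).hom = ((EtCoh.bc (pullback.fst f f ≫ f)).obj V).hom ≫ (pullback.snd f f) :=
  dn_w f (pullback.snd f f) (p₂_comp f) V

variable (F' : EtDesc.Sh X') (φ : (EtDesc.pullSh (pullback.fst f f)).obj F' ≅ (EtDesc.pullSh (pullback.snd f f)).obj F')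

theorem sec_nat (π : EtDesc.X2 f ⟶ X') (w : π ≫ f = (pullback.fst f f ≫ f)) {V W : X.Etale} (c : W ⟶ V)
    (t : F'.obj.obj (op ((EtCoh.bc f).obj V))) :
    el π F' (dn f π w W) (dn_w f π w W) (F'.obj.map ((EtCoh.bc f).map c).op t) =
      ((EtDesc.pullSh π).obj F').obj.map ((EtCoh.bc (pullback.fst f f ≫ f)).map c).op (el π F' (dn f π w V) (dn_w f π w V) t) := by
  have h₁ : (dn f π w W ≫ ((EtCoh.bc f).map c).left) ≫ ((EtCoh.bc f).obj V).hom = ((EtCoh.bc (pullback.fst f f ≫ f)).obj W).hom ≫ π :=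
    (Category.assoc _ _ _).trans ((congrArg (_ ≫ ·) (MorphismProperty.Over.w ((EtCoh.bc f).map c))).trans (dn_w f π w W))
  have h₂ : (((EtCoh.bc (pullback.fst f f ≫ f)).map c).left ≫ dn f π w V) ≫ ((EtCoh.bc f).obj V).hom = ((EtCoh.bc (pullback.fst f f ≫ f)).obj W).hom ≫ π :=
    (congrArg (· ≫ ((EtCoh.bc f).obj V).hom) (dn_nat f π w c)).trans h₁
  exact (el_map_right π F' _ _ _ h₁ t).trans
    ((el_congr π F' h₁ h₂ (dn_nat f π w c).symm t).trans (el_map_left π F' _ _ _ h₂ t).symm)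

attribute [local irreducible] el

/-- The first map of the descent equalizer. -/
def mapA : (EtDesc.pushSh f).obj F' ⟶ (EtDesc.pushSh (pullback.fst f f ≫ f)).obj ((EtDesc.pullSh (pullback.snd f f)).obj F') :=
  secMap f (pullback.fst f f ≫ f) F' _ (fun V t => φ.hom.hom.app (op ((EtCoh.bc (pullback.fst f f ≫ f)).obj V)) (el (pullback.fst f f) F' (dn₁ f V) (dn₁_w f V) t))
    fun c t => app_nat φ.hom _ (sec_nat f F' (pullback.fst f f) rfl c t).symm

/-- The second map of the descent equalizer. -/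
def mapB : (EtDesc.pushSh f).obj F' ⟶ (EtDesc.pushSh (pullback.fst f f ≫ f)).obj ((EtDesc.pullSh (pullback.snd f f)).obj F') :=
  secMap f (pullback.fst f f ≫ f) F' _ (fun V t => el (pullback.snd f f) F' (dn₂ f V) (dn₂_w f V) t)
    fun c t => sec_nat f F' (pullback.snd f f) (p₂_comp f) c t

theorem mapA_app (V : X.Etale) (t : F'.obj.obj (op ((EtCoh.bc f).obj V))) : (mapA f F' φ).hom.app (op V) t =
    φ.hom.hom.app (op ((EtCoh.bc (pullback.fst f f ≫ f)).obj V)) (el (pullback.fst f f) F' (dn₁ f V) (dn₁_w f V) t) :=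
  secMap_app f (pullback.fst f f ≫ f) F' _ _ _ V t

theorem mapB_app (V : X.Etale) (t : F'.obj.obj (op ((EtCoh.bc f).obj V))) : (mapB f F').hom.app (op V) t =
    el (pullback.snd f f) F' (dn₂ f V) (dn₂_w f V) t :=
  secMap_app f (pullback.fst f f ≫ f) F' _ _ _ V t

/-- The descended sheaf. -/
def descSheaf : EtDesc.Sh X := equalizer (mapA f F' φ) (mapB f F')

/-- The inclusion of the descended sheaf. -/
def incl : descSheaf f F' φ ⟶ (EtDesc.pushSh f).obj F' := equalizer.ι _ _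

/-- The comparison map. -/
def psi : (EtDesc.pullSh f).obj (descSheaf f F' φ) ⟶ F' :=
  ((EtDesc.adjSh f).homEquiv _ _).symm (incl f F' φ)

theorem psi_el {V : X.Etale} {W : X'.Etale} (l : W.left ⟶ V.left) (hl : l ≫ V.hom = W.hom ≫ f)
    (s : (descSheaf f F' φ).obj.obj (op V)) :
    (psi f F' φ).hom.app (op W) (el f (descSheaf f F' φ) l hl s) =
      F'.obj.map (toBc f l hl).op ((incl f F' φ).hom.app (op V) s) := by
  unfold el
  refine (NatTrans.naturality_apply (psi f F' φ).hom (toBc f l hl).op _).trans (congrArg _ ?_)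
  exact congrArg (fun χ => χ.hom.app (op V) s) ((Adjunction.homEquiv_unit (adj := EtDesc.adjSh f) (f := psi f F' φ)).symm.trans
    (Equiv.apply_symm_apply _ _))

theorem agree {V : X.Etale} (s : (descSheaf f F' φ).obj.obj (op V)) :
    φ.hom.hom.app (op ((EtCoh.bc (pullback.fst f f ≫ f)).obj V)) (el (pullback.fst f f) F' (dn₁ f V) (dn₁_w f V) ((incl f F' φ).hom.app (op V) s)) =
      el (pullback.snd f f) F' (dn₂ f V) (dn₂_w f V) ((incl f F' φ).hom.app (op V) s) :=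
  secMap_eq f (pullback.fst f f ≫ f) F' _ (incl f F' φ) (fun V t => φ.hom.hom.app (op ((EtCoh.bc (pullback.fst f f ≫ f)).obj V)) (el (pullback.fst f f) F' (dn₁ f V) (dn₁_w f V) t))
    (fun V t => el (pullback.snd f f) F' (dn₂ f V) (dn₂_w f V) t)
    (fun c t => app_nat φ.hom _ (sec_nat f F' (pullback.fst f f) rfl c t).symm) (fun c t => sec_nat f F' (pullback.snd f f) (p₂_comp f) c t)
    (equalizer.condition (mapA f F' φ) (mapB f F')) V s

theorem agree_at {V : X.Etale} (s : (descSheaf f F' φ).obj.obj (op V)) {W : (EtDesc.X2 f).Etale}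
    (l₁ l₂ : W.left ⟶ ((EtCoh.bc f).obj V).left) (h₁ : l₁ ≫ ((EtCoh.bc f).obj V).hom = W.hom ≫ (pullback.fst f f))
    (h₂ : l₂ ≫ ((EtCoh.bc f).obj V).hom = W.hom ≫ (pullback.snd f f)) (h : l₁ ≫ pullback.fst V.hom f = l₂ ≫ pullback.fst V.hom f) :
    φ.hom.hom.app (op W) (el (pullback.fst f f) F' l₁ h₁ ((incl f F' φ).hom.app (op V) s)) =
      el (pullback.snd f f) F' l₂ h₂ ((incl f F' φ).hom.app (op V) s) := by
  let k := toBc (pullback.fst f f ≫ f) (U := V) (l₁ ≫ pullback.fst V.hom f) ((Category.assoc _ _ _).trans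
    ((congrArg (l₁ ≫ ·) pullback.condition).trans ((Category.assoc _ _ _).symm.trans
      ((congrArg (· ≫ f) h₁).trans (Category.assoc _ _ _)))))
  have e₁ : k.left ≫ dn₁ f V = l₁ := by
    refine pullback.hom_ext ?_ ?_
    · exact (Category.assoc _ _ _).trans ((congrArg (_ ≫ ·) (dn_fst f (pullback.fst f f) rfl V)).trans (toBc_fst (pullback.fst f f ≫ f) _ _))
    · refine (Category.assoc _ _ _).trans ((congrArg (_ ≫ ·) (dn₁_w f V)).trans ?_)
      exact (Category.assoc _ _ _).symm.trans ((congrArg (· ≫ (pullback.fst f f)) (MorphismProperty.Over.w k)).trans h₁.symm)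
  have e₂ : k.left ≫ dn₂ f V = l₂ := by
    refine pullback.hom_ext ?_ ?_
    · exact (Category.assoc _ _ _).trans ((congrArg (_ ≫ ·) (dn_fst f (pullback.snd f f) (p₂_comp f) V)).trans ((toBc_fst (pullback.fst f f ≫ f) _ _).trans h))
    · refine (Category.assoc _ _ _).trans ((congrArg (_ ≫ ·) (dn₂_w f V)).trans ?_)
      exact (Category.assoc _ _ _).symm.trans ((congrArg (· ≫ (pullback.snd f f)) (MorphismProperty.Over.w k)).trans h₂.symm)
  have k₁ := (el_map_left (pullback.fst f f) F' k (dn₁ f V) (dn₁_w f V) (e₁.symm ▸ h₁) ((incl f F' φ).hom.app (op V) s)).trans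
    (el_congr (pullback.fst f f) F' (e₁.symm ▸ h₁) h₁ e₁ _)
  have k₂ := (el_map_left (pullback.snd f f) F' k (dn₂ f V) (dn₂_w f V) (e₂.symm ▸ h₂) ((incl f F' φ).hom.app (op V) s)).trans
    (el_congr (pullback.snd f f) F' (e₂.symm ▸ h₂) h₂ e₂ _)
  exact (app_nat φ.hom k k₁).trans ((congrArg (((EtDesc.pullSh (pullback.snd f f)).obj F').obj.map k.op) (agree f F' φ s)).trans k₂)

/-- The datum pulled back along a map to the double fibre product, on pulled back sections. -/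
theorem pullIso_el (g : EtDesc.X3 f ⟶ EtDesc.X2 f) (b₁ b₂ : EtDesc.X3 f ⟶ X') (w₁ : g ≫ (pullback.fst f f) = b₁)
    (w₂ : g ≫ (pullback.snd f f) = b₂) {U₁ : X'.Etale} {W : (EtDesc.X2 f).Etale} {W' : (EtDesc.X3 f).Etale}
    (j : W'.left ⟶ W.left) (hj : j ≫ W.hom = W'.hom ≫ g) (l : W.left ⟶ U₁.left) (hl : l ≫ U₁.hom = W.hom ≫ (pullback.fst f f))
    (k : W'.left ⟶ U₁.left) (hk : k ≫ U₁.hom = W'.hom ≫ b₁) (e : j ≫ l = k) (t : F'.obj.obj (op U₁)) :
    (EtDesc.pullIsoVia g b₁ b₂ w₁ w₂ F' φ).hom.hom.app (op W') (el b₁ F' k hk t) =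
      (EtDesc.pullVia g (pullback.snd f f) b₂ w₂ F').hom.hom.app (op W')
        (el g ((EtDesc.pullSh (pullback.snd f f)).obj F') j hj (φ.hom.hom.app (op W) (el (pullback.fst f f) F' l hl t))) := by
  subst e
  show (EtDesc.pullVia g (pullback.snd f f) b₂ w₂ F').hom.hom.app (op W') (((EtDesc.pullSh g).map φ.hom).hom.app (op W')
    ((EtDesc.pullVia g (pullback.fst f f) b₁ w₁ F').inv.hom.app (op W') (el b₁ F' (j ≫ l) hk t))) = _
  refine congrArg _ ?_
  refine Eq.trans (congrArg _ ?_) (app_el g _ φ.hom j hj (el (pullback.fst f f) F' l hl t))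
  rw [← pullVia_el g (pullback.fst f f) b₁ w₁ F' j hj l hl hk t]
  exact congrArg (fun χ => χ.hom.app (op W') (el g ((EtDesc.pullSh (pullback.fst f f)).obj F') j hj (el (pullback.fst f f) F' l hl t)))
    (EtDesc.pullVia g (pullback.fst f f) b₁ w₁ F').hom_inv_id

theorem trans_symm_app {C : Type*} [Category C] {J : GrothendieckTopology C} {P Q M : Sheaf J (Type (u + 1))}
    (e₁ : P ≅ M) (e₂ : Q ≅ M) (U : C) (x : P.obj.obj (op U)) :
    (e₁ ≪≫ e₂.symm).hom.hom.app (op U) x = e₂.inv.hom.app (op U) (e₁.hom.hom.app (op U) x) := rfl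

theorem transition_el {T : Scheme.{u}} (π₁ π₂ : T ⟶ X') (b : T ⟶ X) (w₁ : π₁ ≫ f = b) (w₂ : π₂ ≫ f = b)
    (G : EtDesc.Sh X) {U U' : X'.Etale} {V : X.Etale} {W : T.Etale}
    (l : W.left ⟶ U.left) (hl : l ≫ U.hom = W.hom ≫ π₁) (k : U.left ⟶ V.left) (hk : k ≫ V.hom = U.hom ≫ f)
    (hlk : (l ≫ k) ≫ V.hom = W.hom ≫ b) (l' : W.left ⟶ U'.left) (h₂ : l' ≫ U'.hom = W.hom ≫ π₂)
    (k' : U'.left ⟶ V.left) (hk' : k' ≫ V.hom = U'.hom ≫ f) (e' : l' ≫ k' = l ≫ k) (s : G.obj.obj (op V)) :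
    (EtDesc.pullVia π₁ f b w₁ G ≪≫ (EtDesc.pullVia π₂ f b w₂ G).symm).hom.hom.app (op W)
        (el π₁ ((EtDesc.pullSh f).obj G) l hl (el f G k hk s)) =
      el π₂ ((EtDesc.pullSh f).obj G) l' h₂ (el f G k' hk' s) := by
  rw [trans_symm_app, pullVia_el π₁ f b w₁ G l hl k hk hlk s]
  exact app_inv_cancel _ ((pullVia_el π₂ f b w₂ G l' h₂ k' hk' (e'.symm ▸ hlk) s).trans (el_congr _ G _ _ e' s))

theorem iso_app_congr {C : Type*} [Category C] {J : GrothendieckTopology C} {P Q : Sheaf J (Type (u + 1))}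
    {e e' : P ≅ Q} (h : e = e') {U : C} {x : P.obj.obj (op U)} {y : Q.obj.obj (op U)}
    (h' : e'.hom.hom.app (op U) x = y) : e.hom.hom.app (op U) x = y := by
  subst h; exact h'

theorem canIso_def' (G : EtDesc.Sh X) : EtDesc.canIso f G = EtDesc.pullVia (pullback.fst f f) f ((pullback.fst f f) ≫ f) rfl G ≪≫
    (EtDesc.pullVia (pullback.snd f f) f ((pullback.fst f f) ≫ f) (p₂_comp f) G).symm :=
  DescCan.canIso_def f G

/-- The canonical datum on pulled back sections. -/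
theorem canIso_el (G : EtDesc.Sh X) {U U' : X'.Etale} {V : X.Etale} {W : (EtDesc.X2 f).Etale}
    (l : W.left ⟶ U.left) (hl : l ≫ U.hom = W.hom ≫ (pullback.fst f f)) (k : U.left ⟶ V.left) (hk : k ≫ V.hom = U.hom ≫ f)
    (hlk : (l ≫ k) ≫ V.hom = W.hom ≫ ((pullback.fst f f) ≫ f)) (l' : W.left ⟶ U'.left)
    (h₂ : l' ≫ U'.hom = W.hom ≫ (pullback.snd f f)) (k' : U'.left ⟶ V.left) (hk' : k' ≫ V.hom = U'.hom ≫ f)
    (e' : l' ≫ k' = l ≫ k) (s : G.obj.obj (op V)) :
    (EtDesc.canIso f G).hom.hom.app (op W) (el (pullback.fst f f) ((EtDesc.pullSh f).obj G) l hl (el f G k hk s)) =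
      el (pullback.snd f f) ((EtDesc.pullSh f).obj G) l' h₂ (el f G k' hk' s) :=
  iso_app_congr (canIso_def' f G) (transition_el f (pullback.fst f f) (pullback.snd f f) ((pullback.fst f f) ≫ f) rfl (p₂_comp f) G l hl k hk hlk l' h₂ k' hk' e' s)

section Comparison

variable {C D : Type*} [Category C] [Category D] (G : C ⥤ D) {A B : C} (a b : A ⟶ B) [HasEqualizer a b]
  [HasEqualizer (G.map a) (G.map b)] [IsIso (equalizerComparison a b G)]

theorem lift_inv_comparison {Z : D} (α : Z ⟶ G.obj A) (h : α ≫ G.map a = α ≫ G.map b) :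
    (equalizer.lift α h ≫ inv (equalizerComparison a b G)) ≫ G.map (equalizer.ι a b) = α := by
  rw [Category.assoc, ← equalizerComparison_comp_π, IsIso.inv_hom_id_assoc, equalizer.lift_ι]

theorem mono_map_ι : Mono (G.map (equalizer.ι a b)) := by
  rw [← equalizerComparison_comp_π]
  exact mono_comp _ _

end Comparison

theorem isPullback_triple : IsPullback (EtDesc.p12 f) (EtDesc.q3 (f := f)) (pullback.fst f f ≫ f) f := by
  have := (IsPullback.of_hasPullback (pullback.snd f f) (pullback.fst f f)).paste_vert (IsPullback.of_hasPullback f f)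
  rw [p₂_comp f] at this
  exact this

/-- The base change map of the morphism along itself. -/
abbrev bc₁ : (EtDesc.pullSh f).obj ((EtDesc.pushSh f).obj F') ⟶
    (EtDesc.pushSh (pullback.snd f f)).obj ((EtDesc.pullSh (pullback.fst f f)).obj F') :=
  EtBC.baseChange0Sh f f (pullback.snd f f) (pullback.fst f f) pullback.condition F'

/-- The base change map of the double fibre product along the morphism. -/
abbrev bc₂ : (EtDesc.pullSh f).obj ((EtDesc.pushSh ((pullback.fst f f) ≫ f)).obj ((EtDesc.pullSh (pullback.snd f f)).obj F')) ⟶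
    (EtDesc.pushSh (EtDesc.q3 (f := f))).obj ((EtDesc.pullSh (EtDesc.p12 f)).obj ((EtDesc.pullSh (pullback.snd f f)).obj F')) :=
  EtBC.baseChange0Sh ((pullback.fst f f) ≫ f) f (EtDesc.q3 (f := f)) (EtDesc.p12 f) (isPullback_triple f).w
    ((EtDesc.pullSh (pullback.snd f f)).obj F')

/-- The coaction of the datum. -/
def delta : F' ⟶ (EtDesc.pushSh (pullback.snd f f)).obj ((EtDesc.pullSh (pullback.fst f f)).obj F') :=
  (EtDesc.adjSh (pullback.snd f f)).unit.app F' ≫ (EtDesc.pushSh (pullback.snd f f)).map φ.inv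

theorem delta_app (U : X'.Etale) (s : F'.obj.obj (op U)) : (delta f F' φ).hom.app (op U) s =
    φ.inv.hom.app (op ((EtCoh.bc (pullback.snd f f)).obj U)) (el (pullback.snd f f) F' (W := (EtCoh.bc (pullback.snd f f)).obj U)
      (pullback.fst U.hom (pullback.snd f f)) pullback.condition s) :=
  (app_comp _ _ U s).trans (congrArg (φ.inv.hom.app (op ((EtCoh.bc (pullback.snd f f)).obj U))) (el_se (pullback.snd f f) F' U s))

theorem delta_eq (U : X'.Etale) (s : F'.obj.obj (op U))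
    (y : ((EtDesc.pullSh (pullback.fst f f)).obj F').obj.obj (op ((EtCoh.bc (pullback.snd f f)).obj U)))
    (hy : φ.hom.hom.app (op ((EtCoh.bc (pullback.snd f f)).obj U)) y = el (pullback.snd f f) F' (W := (EtCoh.bc (pullback.snd f f)).obj U)
      (pullback.fst U.hom (pullback.snd f f)) pullback.condition s) : (delta f F' φ).hom.app (op U) s = y :=
  (delta_app f F' φ U s).trans (app_inv_cancel φ hy)

theorem exists_bc₁_el {V : X.Etale} {W : X'.Etale} (l : W.left ⟶ V.left) (hl : l ≫ V.hom = W.hom ≫ f) :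
    ∃ (L : ((EtCoh.bc (pullback.snd f f)).obj W).left ⟶ ((EtCoh.bc f).obj V).left)
      (hL : L ≫ ((EtCoh.bc f).obj V).hom = ((EtCoh.bc (pullback.snd f f)).obj W).hom ≫ (pullback.fst f f)),
      L ≫ pullback.fst V.hom f = pullback.fst W.hom (pullback.snd f f) ≫ l ∧
        ∀ t, (bc₁ f F').hom.app (op W) (el f ((EtDesc.pushSh f).obj F') l hl t) = el (pullback.fst f f) F' L hL t :=
  ⟨pullback.lift (pullback.fst W.hom (pullback.snd f f) ≫ l) (pullback.snd W.hom (pullback.snd f f) ≫ pullback.fst f f)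
    ((Category.assoc _ _ _).trans ((congrArg (_ ≫ ·) hl).trans ((Category.assoc _ _ _).symm.trans
      ((congrArg (· ≫ f) pullback.condition).trans ((Category.assoc _ _ _).trans
        ((congrArg (_ ≫ ·) (p₂_comp f)).trans (Category.assoc _ _ _).symm)))))),
    pullback.lift_snd _ _ _, pullback.lift_fst _ _ _, fun t =>
      baseChange0Sh_el f f (pullback.snd f f) (pullback.fst f f) pullback.condition F' l hl _ _ (pullback.lift_fst _ _ _) t⟩

theorem psi_delta : psi f F' φ ≫ delta f F' φ = (EtDesc.pullSh f).map (incl f F' φ) ≫ bc₁ f F' := by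
  refine hom_ext_el f (descSheaf f F' φ) fun W V l hl s => ?_
  obtain ⟨L, hLw, hLf, hLc⟩ := exists_bc₁_el f F' l hl
  refine (app_comp _ _ W _).trans ((congrArg ((delta f F' φ).hom.app (op W)) (psi_el f F' φ l hl s)).trans (Eq.trans ?_
    ((app_comp ((EtDesc.pullSh f).map (incl f F' φ)) (bc₁ f F') W _).trans
      ((congrArg ((bc₁ f F').hom.app (op W)) (app_el f _ (incl f F' φ) l hl s)).trans
        (hLc ((incl f F' φ).hom.app (op V) s)))).symm))
  refine delta_eq f F' φ W _ _ ?_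
  have h₂ : (pullback.fst W.hom (pullback.snd f f) ≫ (toBc f l hl).left) ≫ ((EtCoh.bc f).obj V).hom =
      ((EtCoh.bc (pullback.snd f f)).obj W).hom ≫ (pullback.snd f f) :=
    (Category.assoc _ _ _).trans ((congrArg (_ ≫ ·) (MorphismProperty.Over.w (toBc f l hl))).trans pullback.condition)
  exact (agree_at f F' φ s L _ hLw h₂
    (hLf.trans ((Category.assoc _ _ _).trans (congrArg (_ ≫ ·) (toBc_fst f l hl))).symm)).trans
    (el_map_right (pullback.snd f f) F' (toBc f l hl) _ pullback.condition h₂ _).symm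

theorem delta_map {U U'' : X'.Etale} (d : U'' ⟶ U) (s' : F'.obj.obj (op U))
    (hfw : (pullback.fst U''.hom (pullback.snd f f) ≫ d.left) ≫ U.hom = ((EtCoh.bc (pullback.snd f f)).obj U'').hom ≫ (pullback.snd f f)) :
    φ.hom.hom.app (op ((EtCoh.bc (pullback.snd f f)).obj U''))
      ((delta f F' φ).hom.app (op U'') (F'.obj.map d.op s')) =
      el (pullback.snd f f) F' (pullback.fst U''.hom (pullback.snd f f) ≫ d.left) hfw s' := by
  rw [delta_app f F' φ U'' (F'.obj.map d.op s'), inv_hom_app]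
  exact el_map_right (pullback.snd f f) F' (W := (EtCoh.bc (pullback.snd f f)).obj U'') d (pullback.fst U''.hom (pullback.snd f f)) pullback.condition hfw s'

/-- The cocycle identity on pulled back sections, for arbitrary projections. -/
theorem cocycle_transfer (g₁₂ g₁₃ g₂₃ : EtDesc.X3 f ⟶ EtDesc.X2 f) (b₁ b₂ b₃ : EtDesc.X3 f ⟶ X')
    (u₁ : g₁₂ ≫ (pullback.fst f f) = b₁) (u₂ : g₁₂ ≫ (pullback.snd f f) = b₂) (v₁ : g₁₃ ≫ (pullback.fst f f) = b₁) (v₂ : g₁₃ ≫ (pullback.snd f f) = b₃)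
    (w₁ : g₂₃ ≫ (pullback.fst f f) = b₂) (w₂ : g₂₃ ≫ (pullback.snd f f) = b₃)
    (hc : (EtDesc.pullIsoVia g₁₂ b₁ b₂ u₁ u₂ F' φ).hom ≫ (EtDesc.pullIsoVia g₂₃ b₂ b₃ w₁ w₂ F' φ).hom =
      (EtDesc.pullIsoVia g₁₃ b₁ b₃ v₁ v₂ F' φ).hom)
    {U₁ U₂ : X'.Etale} {W₀ W₂ : (EtDesc.X2 f).Etale} {W₃ : (EtDesc.X3 f).Etale}
    (j₁₂ : W₃.left ⟶ W₀.left) (hj₁₂ : j₁₂ ≫ W₀.hom = W₃.hom ≫ g₁₂)
    (j₁₃ : W₃.left ⟶ W₂.left) (hj₁₃ : j₁₃ ≫ W₂.hom = W₃.hom ≫ g₁₃)
    (j₂₃ : W₃.left ⟶ W₂.left) (hj₂₃ : j₂₃ ≫ W₂.hom = W₃.hom ≫ g₂₃)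
    (l₀ m₀ : W₀.left ⟶ U₁.left) (hl₀ : l₀ ≫ U₁.hom = W₀.hom ≫ (pullback.fst f f)) (hm₀ : m₀ ≫ U₁.hom = W₀.hom ≫ (pullback.snd f f))
    (L : W₂.left ⟶ U₁.left) (hL : L ≫ U₁.hom = W₂.hom ≫ (pullback.fst f f))
    (M : W₂.left ⟶ U₂.left) (hM : M ≫ U₂.hom = W₂.hom ≫ (pullback.snd f f))
    (e₁₃ : j₁₃ ≫ L = j₁₂ ≫ l₀) (e₂₃ : j₂₃ ≫ L = j₁₂ ≫ m₀) (e₃ : j₁₃ ≫ M = j₂₃ ≫ M)
    (t : F'.obj.obj (op U₁)) (s' : F'.obj.obj (op U₂))
    (hRel : φ.hom.hom.app (op W₂) (el (pullback.fst f f) F' L hL t) = el (pullback.snd f f) F' M hM s') :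
    el g₁₂ ((EtDesc.pullSh (pullback.snd f f)).obj F') j₁₂ hj₁₂ (φ.hom.hom.app (op W₀) (el (pullback.fst f f) F' l₀ hl₀ t)) =
      el g₁₂ ((EtDesc.pullSh (pullback.snd f f)).obj F') j₁₂ hj₁₂ (el (pullback.snd f f) F' m₀ hm₀ t) := by
  have hk₁ : (j₁₂ ≫ l₀) ≫ U₁.hom = W₃.hom ≫ b₁ := by rw [Category.assoc, hl₀, reassoc_of% hj₁₂, u₁]
  have hk₂ : (j₁₂ ≫ m₀) ≫ U₁.hom = W₃.hom ≫ b₂ := by rw [Category.assoc, hm₀, reassoc_of% hj₁₂, u₂]
  have h13 : (j₁₃ ≫ M) ≫ U₂.hom = W₃.hom ≫ b₃ := by rw [Category.assoc, hM, reassoc_of% hj₁₃, v₂]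
  have h23 : (j₂₃ ≫ M) ≫ U₂.hom = W₃.hom ≫ b₃ := by rw [Category.assoc, hM, reassoc_of% hj₂₃, w₂]
  apply injective_app_of_mono (EtDesc.pullVia g₁₂ (pullback.snd f f) b₂ u₂ F').hom W₃
  rw [pullVia_el g₁₂ (pullback.snd f f) b₂ u₂ F' j₁₂ hj₁₂ m₀ hm₀ hk₂ t,
    ← pullIso_el f F' φ g₁₂ b₁ b₂ u₁ u₂ j₁₂ hj₁₂ l₀ hl₀ _ hk₁ rfl t]
  apply injective_app_of_mono (EtDesc.pullIsoVia g₂₃ b₂ b₃ w₁ w₂ F' φ).hom W₃
  rw [← app_comp, hc, pullIso_el f F' φ g₁₃ b₁ b₃ v₁ v₂ j₁₃ hj₁₃ L hL _ hk₁ e₁₃ t,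
    pullIso_el f F' φ g₂₃ b₂ b₃ w₁ w₂ j₂₃ hj₂₃ L hL _ hk₂ e₂₃ t, hRel,
    pullVia_el g₁₃ (pullback.snd f f) b₃ v₂ F' j₁₃ hj₁₃ M hM h13 s', pullVia_el g₂₃ (pullback.snd f f) b₃ w₂ F' j₂₃ hj₂₃ M hM h23 s']
  exact el_congr b₃ F' h13 h23 e₃ s'

theorem bc₂_el {V : X.Etale} {W : X'.Etale} (l : W.left ⟶ V.left) (hl : l ≫ V.hom = W.hom ≫ f)
    (L : ((EtCoh.bc (EtDesc.q3 (f := f))).obj W).left ⟶ ((EtCoh.bc ((pullback.fst f f) ≫ f)).obj V).left)
    (hL : L ≫ ((EtCoh.bc ((pullback.fst f f) ≫ f)).obj V).hom = ((EtCoh.bc (EtDesc.q3 (f := f))).obj W).hom ≫ EtDesc.p12 f)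
    (hL' : L ≫ pullback.fst V.hom ((pullback.fst f f) ≫ f) = pullback.fst W.hom (EtDesc.q3 (f := f)) ≫ l)
    (y : ((EtDesc.pullSh (pullback.snd f f)).obj F').obj.obj (op ((EtCoh.bc ((pullback.fst f f) ≫ f)).obj V))) :
    (bc₂ f F').hom.app (op W) (el f ((EtDesc.pushSh ((pullback.fst f f) ≫ f)).obj ((EtDesc.pullSh (pullback.snd f f)).obj F')) l hl y) =
      el (EtDesc.p12 f) ((EtDesc.pullSh (pullback.snd f f)).obj F') L hL y :=
  baseChange0Sh_el ((pullback.fst f f) ≫ f) f (EtDesc.q3 (f := f)) (EtDesc.p12 f) (isPullback_triple f).w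
    ((EtDesc.pullSh (pullback.snd f f)).obj F') l hl L hL hL' y

/-- The cocycle condition on pulled back sections. -/
theorem triple_eq (hφ : EtDesc.IsCocycle F' φ) {U U'' : X'.Etale} (d : U'' ⟶ U) {V : X.Etale}
    (l : U''.left ⟶ V.left) (hl : l ≫ V.hom = U''.hom ≫ f) (t : F'.obj.obj (op ((EtCoh.bc f).obj V)))
    (s' : F'.obj.obj (op U))
    (L : ((EtCoh.bc (pullback.snd f f)).obj U'').left ⟶ ((EtCoh.bc f).obj V).left)
    (hLw : L ≫ ((EtCoh.bc f).obj V).hom = ((EtCoh.bc (pullback.snd f f)).obj U'').hom ≫ (pullback.fst f f))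
    (hLf : L ≫ pullback.fst V.hom f = pullback.fst U''.hom (pullback.snd f f) ≫ l)
    (hfw : (pullback.fst U''.hom (pullback.snd f f) ≫ d.left) ≫ U.hom = ((EtCoh.bc (pullback.snd f f)).obj U'').hom ≫ (pullback.snd f f))
    (hRel : φ.hom.hom.app (op ((EtCoh.bc (pullback.snd f f)).obj U'')) (el (pullback.fst f f) F' L hLw t) =
      el (pullback.snd f f) F' (pullback.fst U''.hom (pullback.snd f f) ≫ d.left) hfw s') :
    (bc₂ f F').hom.app (op U'') (el f ((EtDesc.pushSh ((pullback.fst f f) ≫ f)).obj ((EtDesc.pullSh (pullback.snd f f)).obj F')) l hl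
      (φ.hom.hom.app (op ((EtCoh.bc ((pullback.fst f f) ≫ f)).obj V)) (el (pullback.fst f f) F' (dn₁ f V) (dn₁_w f V) t))) =
    (bc₂ f F').hom.app (op U'') (el f ((EtDesc.pushSh ((pullback.fst f f) ≫ f)).obj ((EtDesc.pullSh (pullback.snd f f)).obj F')) l hl
      (el (pullback.snd f f) F' (dn₂ f V) (dn₂_w f V) t)) := by
  let W3 := (EtCoh.bc (EtDesc.q3 (f := f))).obj U''
  let L₂ : W3.left ⟶ ((EtCoh.bc (pullback.fst f f ≫ f)).obj V).left :=
    pullback.lift (pullback.fst U''.hom _ ≫ l) (pullback.snd U''.hom _ ≫ EtDesc.p12 f)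
      ((Category.assoc _ _ _).trans ((congrArg (_ ≫ ·) hl).trans ((Category.assoc _ _ _).symm.trans
        ((congrArg (· ≫ f) pullback.condition).trans ((Category.assoc _ _ _).trans
          ((congrArg (_ ≫ ·) (isPullback_triple f).w.symm).trans (Category.assoc _ _ _).symm))))))
  have hL₂ : L₂ ≫ ((EtCoh.bc (pullback.fst f f ≫ f)).obj V).hom = W3.hom ≫ EtDesc.p12 f := pullback.lift_snd _ _ _
  have hk₁ : (L₂ ≫ dn₁ f V) ≫ ((EtCoh.bc f).obj V).hom = W3.hom ≫ EtDesc.q1 :=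
    (Category.assoc _ _ _).trans ((congrArg (L₂ ≫ ·) (dn₁_w f V)).trans
      ((Category.assoc _ _ _).symm.trans ((congrArg (· ≫ (pullback.fst f f)) hL₂).trans (Category.assoc _ _ _))))
  have hk₂ : (L₂ ≫ dn₂ f V) ≫ ((EtCoh.bc f).obj V).hom = W3.hom ≫ EtDesc.q2 :=
    (Category.assoc _ _ _).trans ((congrArg (L₂ ≫ ·) (dn₂_w f V)).trans
      ((Category.assoc _ _ _).symm.trans ((congrArg (· ≫ (pullback.snd f f)) hL₂).trans (Category.assoc _ _ _))))
  let j13 : W3.left ⟶ ((EtCoh.bc (pullback.snd f f)).obj U'').left :=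
    pullback.lift (pullback.fst U''.hom _) (pullback.snd U''.hom _ ≫ EtDesc.p13 f)
      (pullback.condition.trans ((congrArg (_ ≫ ·) EtDesc.p13_snd.symm).trans (Category.assoc _ _ _).symm))
  let j23 : W3.left ⟶ ((EtCoh.bc (pullback.snd f f)).obj U'').left :=
    pullback.lift (pullback.fst U''.hom _) (pullback.snd U''.hom _ ≫ EtDesc.p23 f)
      (pullback.condition.trans (Category.assoc _ _ _).symm)
  have hj13 : j13 ≫ ((EtCoh.bc (pullback.snd f f)).obj U'').hom = W3.hom ≫ EtDesc.p13 f := pullback.lift_snd _ _ _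
  have hj23 : j23 ≫ ((EtCoh.bc (pullback.snd f f)).obj U'').hom = W3.hom ≫ EtDesc.p23 f := pullback.lift_snd _ _ _
  have e13 : j13 ≫ L = L₂ ≫ dn₁ f V := by
    refine pullback.hom_ext ?_ ?_
    · refine (Category.assoc _ _ _).trans ((congrArg (j13 ≫ ·) hLf).trans ?_)
      refine (Category.assoc _ _ _).symm.trans ((congrArg (· ≫ l) (pullback.lift_fst _ _ _)).trans ?_)
      exact ((Category.assoc _ _ _).trans ((congrArg (L₂ ≫ ·) (dn_fst f _ _ V)).trans (pullback.lift_fst _ _ _))).symm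
    · refine Eq.trans ?_ hk₁.symm
      refine (Category.assoc _ _ _).trans ((congrArg (j13 ≫ ·) hLw).trans ?_)
      refine (Category.assoc _ _ _).symm.trans ((congrArg (· ≫ (pullback.fst f f)) hj13).trans ?_)
      exact (Category.assoc _ _ _).trans (congrArg (_ ≫ ·) EtDesc.p13_fst)
  have e23 : j23 ≫ L = L₂ ≫ dn₂ f V := by
    refine pullback.hom_ext ?_ ?_
    · refine (Category.assoc _ _ _).trans ((congrArg (j23 ≫ ·) hLf).trans ?_)
      refine (Category.assoc _ _ _).symm.trans ((congrArg (· ≫ l) (pullback.lift_fst _ _ _)).trans ?_)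
      exact ((Category.assoc _ _ _).trans ((congrArg (L₂ ≫ ·) (dn_fst f _ _ V)).trans (pullback.lift_fst _ _ _))).symm
    · refine Eq.trans ?_ hk₂.symm
      refine (Category.assoc _ _ _).trans ((congrArg (j23 ≫ ·) hLw).trans ?_)
      refine (Category.assoc _ _ _).symm.trans ((congrArg (· ≫ (pullback.fst f f)) hj23).trans ?_)
      exact (Category.assoc _ _ _).trans (congrArg (_ ≫ ·) EtDesc.p23_fst)
  have g13 : j13 ≫ pullback.fst U''.hom (pullback.snd f f) ≫ d.left = j23 ≫ pullback.fst U''.hom (pullback.snd f f) ≫ d.left :=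
    ((Category.assoc _ _ _).symm.trans (congrArg (· ≫ d.left) ((pullback.lift_fst _ _ _).trans
      (pullback.lift_fst _ _ _).symm))).trans (Category.assoc _ _ _)
  exact (bc₂_el f F' l hl L₂ hL₂ (pullback.lift_fst _ _ _) _).trans
    ((cocycle_transfer f F' φ (EtDesc.p12 f) (EtDesc.p13 f) (EtDesc.p23 f) EtDesc.q1 EtDesc.q2 EtDesc.q3
      rfl rfl EtDesc.p13_fst EtDesc.p13_snd EtDesc.p23_fst rfl hφ L₂ hL₂ j13 hj13 j23 hj23
      (dn₁ f V) (dn₂ f V) (dn₁_w f V) (dn₂_w f V) L hLw _ hfw e13 e23 g13 t s' hRel).trans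
      (bc₂_el f F' l hl L₂ hL₂ (pullback.lift_fst _ _ _) _).symm)

variable [Surjective f]

theorem mono_delta : Mono (delta f F' φ) := by
  haveI : Surjective (pullback.snd f f) := MorphismProperty.pullback_snd (P := @Surjective) f f inferInstance
  haveI := mono_unit (pullback.snd f f) F'
  exact mono_comp _ _

variable [IsIso (bc₁ f F')] [Mono (bc₂ f F')]

/-- The section of the comparison map. -/
def coact : F' ⟶ (EtDesc.pullSh f).obj ((EtDesc.pushSh f).obj F') := delta f F' φ ≫ inv (bc₁ f F')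

theorem coact_bc₁ : coact f F' φ ≫ bc₁ f F' = delta f F' φ :=
  (Category.assoc _ _ _).trans ((congrArg (delta f F' φ ≫ ·) (IsIso.inv_hom_id (bc₁ f F'))).trans (Category.comp_id _))

theorem coact_equalizes (hφ : EtDesc.IsCocycle F' φ) :
    coact f F' φ ≫ (EtDesc.pullSh f).map (mapA f F' φ) = coact f F' φ ≫ (EtDesc.pullSh f).map (mapB f F') := by
  refine CategoryTheory.Sheaf.hom_ext (NatTrans.ext (funext fun ⟨U⟩ => ConcreteCategory.hom_ext _ _ fun s' => ?_))
  refine (app_comp _ _ U s').trans (Eq.trans ?_ (app_comp _ _ U s').symm)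
  refine sect_ext _ fun q => ?_
  obtain ⟨U'', d, q', V, l, hl, t, hd, ht⟩ := exists_el f _ ((coact f F' φ).hom.app (op U) s') q
  refine ⟨U'', d, q', hd, ?_⟩
  refine (NatTrans.naturality_apply ((EtDesc.pullSh f).map (mapA f F' φ)).hom d.op _).symm.trans
    (Eq.trans ?_ (NatTrans.naturality_apply ((EtDesc.pullSh f).map (mapB f F')).hom d.op _))
  refine ((congrArg (((EtDesc.pullSh f).map (mapA f F' φ)).hom.app (op U'')) ht).trans
    ((app_el f _ (mapA f F' φ) l hl t).trans (congrArg (el f _ l hl) (mapA_app f F' φ V t)))).trans (Eq.trans ?_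
    ((congrArg (((EtDesc.pullSh f).map (mapB f F')).hom.app (op U'')) ht).trans
    ((app_el f _ (mapB f F') l hl t).trans (congrArg (el f _ l hl) (mapB_app f F' V t)))).symm)
  obtain ⟨L, hLw, hLf, hLc⟩ := exists_bc₁_el f F' l hl
  have hfw : (pullback.fst U''.hom (pullback.snd f f) ≫ d.left) ≫ U.hom = ((EtCoh.bc (pullback.snd f f)).obj U'').hom ≫ (pullback.snd f f) :=
    (Category.assoc _ _ _).trans ((congrArg (_ ≫ ·) (MorphismProperty.Over.w d)).trans pullback.condition)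
  refine injective_app_of_mono (bc₂ f F') U'' (triple_eq f F' φ hφ d l hl t s' L hLw hLf hfw ?_)
  refine (congrArg (φ.hom.hom.app (op ((EtCoh.bc (pullback.snd f f)).obj U''))) ?_).trans (delta_map f F' φ d s' hfw)
  refine (hLc t).symm.trans ((congrArg ((bc₁ f F').hom.app (op U'')) ht.symm).trans ?_)
  refine (congrArg ((bc₁ f F').hom.app (op U'')) (NatTrans.naturality_apply (coact f F' φ).hom d.op s').symm).trans ?_
  exact (app_comp _ _ U'' _).symm.trans
    (congrArg (fun χ => χ.hom.app (op U'') (F'.obj.map d.op s')) (coact_bc₁ f F' φ))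

theorem psi_coact : psi f F' φ ≫ coact f F' φ = (EtDesc.pullSh f).map (incl f F' φ) :=
  (Category.assoc _ _ _).symm.trans ((congrArg (· ≫ inv (bc₁ f F')) (psi_delta f F' φ)).trans
    ((Category.assoc _ _ _).trans ((congrArg (_ ≫ ·) (IsIso.hom_inv_id (bc₁ f F'))).trans (Category.comp_id _))))

omit [Surjective f] [IsIso (bc₁ f F')] [Mono (bc₂ f F')] in
theorem hom_ext_el₂ {T : Scheme.{u}} (π : T ⟶ X') (G : EtDesc.Sh X) {H : EtDesc.Sh T}
    {a b : (EtDesc.pullSh π).obj ((EtDesc.pullSh f).obj G) ⟶ H}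
    (h : ∀ (W : T.Etale) (U : X'.Etale) (V : X.Etale) (l : W.left ⟶ U.left) (hl : l ≫ U.hom = W.hom ≫ π)
      (k : U.left ⟶ V.left) (hk : k ≫ V.hom = U.hom ≫ f) (s : G.obj.obj (op V)),
      a.hom.app (op W) (el π ((EtDesc.pullSh f).obj G) l hl (el f G k hk s)) =
        b.hom.app (op W) (el π ((EtDesc.pullSh f).obj G) l hl (el f G k hk s))) : a = b := by
  refine ((EtDesc.adjSh π).homEquiv _ _).injective ?_
  rw [Adjunction.homEquiv_unit, Adjunction.homEquiv_unit]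
  refine hom_ext_el f G fun U V k hk s => ?_
  show a.hom.app _ (DescCan.se π _ U (el f G k hk s)) = b.hom.app _ (DescCan.se π _ U (el f G k hk s))
  rw [el_se]
  exact h _ U V _ _ k hk s

omit [Surjective f] [IsIso (bc₁ f F')] [Mono (bc₂ f F')] in
theorem psi_el_self {V : X.Etale} (s : (descSheaf f F' φ).obj.obj (op V)) :
    (psi f F' φ).hom.app (op ((EtCoh.bc f).obj V))
      (el f (descSheaf f F' φ) (W := (EtCoh.bc f).obj V) (pullback.fst V.hom f) pullback.condition s) =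
      (incl f F' φ).hom.app (op V) s :=
  (psi_el f F' φ _ _ s).trans ((congrArg (fun c => F'.obj.map (Quiver.Hom.op c) ((incl f F' φ).hom.app (op V) s))
    (hom_ext_fst f ((toBc_fst f (W := (EtCoh.bc f).obj V) _ _).trans (Category.id_comp _).symm))).trans
      (DescCan.map_id' F'.obj _))

omit [Surjective f] [IsIso (bc₁ f F')] [Mono (bc₂ f F')] in
theorem psi_compat_core {U : X'.Etale} {V : X.Etale} {W : (EtDesc.X2 f).Etale}
    (l : W.left ⟶ U.left) (hl : l ≫ U.hom = W.hom ≫ (pullback.fst f f)) (k : U.left ⟶ V.left) (hk : k ≫ V.hom = U.hom ≫ f)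
    (l' : W.left ⟶ ((EtCoh.bc f).obj V).left) (h₂ : l' ≫ ((EtCoh.bc f).obj V).hom = W.hom ≫ (pullback.snd f f))
    (e' : l' ≫ pullback.fst V.hom f = l ≫ k) (hlk : (l ≫ k) ≫ V.hom = W.hom ≫ ((pullback.fst f f) ≫ f))
    (h₁ : (l ≫ (toBc f k hk).left) ≫ ((EtCoh.bc f).obj V).hom = W.hom ≫ (pullback.fst f f))
    (s : (descSheaf f F' φ).obj.obj (op V)) :
    φ.hom.hom.app (op W) (((EtDesc.pullSh (pullback.fst f f)).map (psi f F' φ)).hom.app (op W)
      (el (pullback.fst f f) ((EtDesc.pullSh f).obj (descSheaf f F' φ)) l hl (el f (descSheaf f F' φ) k hk s))) =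
    ((EtDesc.pullSh (pullback.snd f f)).map (psi f F' φ)).hom.app (op W) ((EtDesc.canIso f (descSheaf f F' φ)).hom.hom.app (op W)
      (el (pullback.fst f f) ((EtDesc.pullSh f).obj (descSheaf f F' φ)) l hl (el f (descSheaf f F' φ) k hk s))) := by
  rw [canIso_el f (descSheaf f F' φ) (U' := (EtCoh.bc f).obj V) l hl k hk hlk l' h₂ (pullback.fst V.hom f)
    pullback.condition e' s, app_el, app_el, psi_el_self, psi_el, el_map_right (pullback.fst f f) F' _ _ hl h₁]
  exact agree_at f F' φ s _ l' h₁ h₂ (((Category.assoc _ _ _).trans (congrArg (_ ≫ ·) (toBc_fst f k hk))).trans e'.symm)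

omit [Surjective f] [IsIso (bc₁ f F')] [Mono (bc₂ f F')] in
theorem psi_compat : (EtDesc.pullSh (pullback.fst f f)).map (psi f F' φ) ≫ φ.hom =
    (EtDesc.canIso f (descSheaf f F' φ)).hom ≫ (EtDesc.pullSh (pullback.snd f f)).map (psi f F' φ) := by
  refine hom_ext_el₂ f (pullback.fst f f) (descSheaf f F' φ) fun W U V l hl k hk s => ?_
  have hlk : (l ≫ k) ≫ V.hom = W.hom ≫ ((pullback.fst f f) ≫ f) := by
    rw [Category.assoc, hk, reassoc_of% hl]
  refine (app_comp _ _ W _).trans (Eq.trans ?_ (app_comp _ _ W _).symm)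
  exact psi_compat_core f F' φ l hl k hk
    (pullback.lift (l ≫ k) (W.hom ≫ (pullback.snd f f)) (hlk.trans ((congrArg (_ ≫ ·) (p₂_comp f).symm).trans (Category.assoc _ _ _).symm)))
    (pullback.lift_snd _ _ _) (pullback.lift_fst _ _ _) hlk
    ((Category.assoc _ _ _).trans ((congrArg (_ ≫ ·) (MorphismProperty.Over.w (toBc f k hk))).trans hl)) s

/-- Descent data are effective when the two base change maps along the morphism are isomorphisms. -/
theorem isEffective_of_baseChange (hφ : EtDesc.IsCocycle F' φ) : EtDesc.IsEffective f F' φ := by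
  haveI := mono_delta f F' φ
  haveI : Mono (coact f F' φ) := mono_comp _ _
  haveI : IsIso (equalizerComparison (mapA f F' φ) (mapB f F') (EtDesc.pullSh f)) :=
    isIso_equalizerComparison _ _
  let lam : F' ⟶ (EtDesc.pullSh f).obj (descSheaf f F' φ) :=
    equalizer.lift (coact f F' φ) (coact_equalizes f F' φ hφ) ≫
      @inv _ _ _ _ (equalizerComparison (mapA f F' φ) (mapB f F') (EtDesc.pullSh f)) (isIso_equalizerComparison _ _)
  have hlam : lam ≫ (EtDesc.pullSh f).map (incl f F' φ) = coact f F' φ :=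
    @lift_inv_comparison _ _ _ _ (EtDesc.pullSh f) _ _ (mapA f F' φ) (mapB f F') _ _
      (isIso_equalizerComparison _ _) _ (coact f F' φ) (coact_equalizes f F' φ hφ)
  haveI : Mono ((EtDesc.pullSh f).map (incl f F' φ)) :=
    @mono_map_ι _ _ _ _ (EtDesc.pullSh f) _ _ (mapA f F' φ) (mapB f F') _ _ (isIso_equalizerComparison _ _)
  let e : (EtDesc.pullSh f).obj (descSheaf f F' φ) ≅ F' :=
    { hom := psi f F' φ
      inv := lam
      hom_inv_id := by
        rw [← cancel_mono ((EtDesc.pullSh f).map (incl f F' φ)), Category.assoc, hlam, psi_coact, Category.id_comp]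
      inv_hom_id := by
        rw [← cancel_mono (coact f F' φ), Category.assoc, psi_coact, hlam, Category.id_comp] }
  refine ⟨descSheaf f F' φ, e, Iso.ext ?_⟩
  show (EtDesc.pullSh (pullback.fst f f)).map e.inv ≫ (EtDesc.canIso f (descSheaf f F' φ)).hom ≫
    (EtDesc.pullSh (pullback.snd f f)).map e.hom = φ.hom
  rw [show e.hom = psi f F' φ from rfl, ← psi_compat f F' φ, ← Functor.map_comp_assoc,
    show e.inv ≫ psi f F' φ = 𝟙 F' from e.inv_hom_id, CategoryTheory.Functor.map_id, Category.id_comp]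

end Groth.L27.EffDesc
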