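import Groth.Agent.L27.EffDesc.Refine
import Groth.Agent.L27.EffDesc.Main
import Groth.Agent.L27.BigSets.FlatConn
import Groth.Agent.L27.Acyclic0.DiscreteBase
import Groth.Agent.L27.Acyclic0.Submersive

/-! # Effective descent along 0-acyclic surjections and along surjections to discrete schemes -/

universe u

open CategoryTheory CategoryTheory.Limits AlgebraicGeometry Opposite TopologicalSpace

set_option autoImplicit false
set_option backward.isDefEq.respectTransparency.types false
set_option linter.style.haveILetI false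

noncomputable section

namespace Groth.L27.EffDesc

open Groth.L27.BigSets (ShConnected ShSubmersive)

/-- Effective descent along quasi-compact quasi-separated surjections with good strictly local maps. -/
theorem isEffective_of_shConnected {X' X : Scheme.{u}} (f : X' ⟶ X) [Surjective f] [QuasiCompact f]
    [QuasiSeparated f] (hs : ShSubmersive f) (hc : ShConnected f) (F' : EtDesc.Sh X')
    (φ : (EtDesc.pullSh (pullback.fst f f)).obj F' ≅ (EtDesc.pullSh (pullback.snd f f)).obj F')
    (hφ : EtDesc.IsCocycle F' φ) : EtDesc.IsEffective f F' φ := by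
  haveI : IsIso (bc₁ f F') := BigSets.isIso_baseChange0Sh_of_shSubmersive (IsPullback.of_hasPullback f f) hs hc F'
  haveI : QuasiCompact (pullback.fst f f) := MorphismProperty.pullback_fst (P := @QuasiCompact) f f ‹QuasiCompact f›
  haveI : QuasiSeparated (pullback.fst f f) :=
    MorphismProperty.pullback_fst (P := @QuasiSeparated) f f ‹QuasiSeparated f›
  haveI : IsIso (bc₂ f F') := BigSets.isIso_baseChange0Sh_of_shSubmersive (isPullback_triple f) hs hc _
  exact isEffective_of_baseChange f F' φ hφ

/-- Affine surjections from a discrete refinement. -/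
theorem exists_affine_refinement {X Y : Scheme.{u}} (g : X ⟶ Y) [Surjective g] [DiscreteTopology Y] :
    ∃ (Z : Scheme.{u}) (s : Z ⟶ X), IsAffineHom (s ≫ g) ∧ Surjective (s ≫ g) := by
  choose x hx using fun y : Y => g.surjective y
  let W : Y → Scheme.{u} := fun y => Spec (X.residueField (x y))
  let s : (∐ W) ⟶ X := Sigma.desc fun y => X.fromSpecResidueField (x y)
  have hpt : ∀ (y : Y) (p : W y), (s ≫ g) (Sigma.ι W y p) = y := fun y p => by
    rw [← Scheme.Hom.comp_apply, Sigma.ι_desc_assoc, Scheme.Hom.comp_apply]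
    have : X.fromSpecResidueField (x y) p = x y := by
      have h1 : X.fromSpecResidueField (x y) p ∈ Set.range (X.fromSpecResidueField (x y)) := ⟨p, rfl⟩
      rwa [Scheme.range_fromSpecResidueField] at h1
    rw [this, hx]
  refine ⟨∐ W, s, isAffineHom_of_forall_exists_isAffineOpen (s ≫ g) fun y => ?_, ⟨fun y => ?_⟩⟩
  · obtain ⟨V, hV, hyV, hVy⟩ := exists_isAffineOpen_mem_and_subset (X := Y) (x := y)
      (U := ⟨{y}, isOpen_discrete _⟩) rfl
    refine ⟨V, hyV, hV, ?_⟩
    have e : (s ≫ g) ⁻¹ᵁ V = (Sigma.ι W y).opensRange := by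
      refine TopologicalSpace.Opens.ext (Set.ext fun z => ?_)
      obtain ⟨y', p, rfl⟩ : ∃ y' p, Sigma.ι W y' p = z := (sigmaOpenCover W).exists_eq z
      constructor
      · intro h
        have h' : y' = y := (hpt y' p).symm.trans (hVy h)
        subst h'
        exact ⟨p, rfl⟩
      · rintro ⟨q, hq⟩
        show (s ≫ g) (Sigma.ι W y' p) ∈ V
        rw [← hq, hpt]
        exact hyV
    rw [e]
    exact isAffineOpen_opensRange _
  · obtain ⟨p⟩ : Nonempty (W y) := inferInstanceAs (Nonempty (PrimeSpectrum _))
    exact ⟨Sigma.ι W y p, hpt y p⟩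

/-- Base changes of surjections to discrete schemes are effective descent morphisms for sheaves of sets. -/
theorem isEffective_of_discrete_base {X Y X₁ Y₁ : Scheme.{u}} (g : X ⟶ Y) [Surjective g] [DiscreteTopology Y]
    (g₁ : X₁ ⟶ Y₁) (b' : X₁ ⟶ X) (b : Y₁ ⟶ Y) (h : IsPullback b' g₁ g b) (F' : EtDesc.Sh X₁)
    (φ : (EtDesc.pullSh (pullback.fst g₁ g₁)).obj F' ≅ (EtDesc.pullSh (pullback.snd g₁ g₁)).obj F')
    (hφ : EtDesc.IsCocycle F' φ) : EtDesc.IsEffective g₁ F' φ := by
  obtain ⟨Z, s, haff, hsurj⟩ := exists_affine_refinement g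
  let k := pullback.snd (s ≫ g) b
  let t : pullback (s ≫ g) b ⟶ X₁ := h.lift (pullback.fst _ _ ≫ s) k
    (by rw [Category.assoc, pullback.condition])
  have ht : t ≫ g₁ = k := h.lift_snd _ _ _
  have hk := IsPullback.of_hasPullback (s ≫ g) b
  haveI : IsAffineHom k := MorphismProperty.pullback_snd (P := @IsAffineHom) _ _ haff
  haveI : Surjective k := MorphismProperty.pullback_snd (P := @Surjective) _ _ hsurj
  obtain ⟨hs, hc⟩ := Acyclic0.shSubmersive_shConnected_of_discrete (s ≫ g) k _ b hk
  have hsub : SGA1.UnivSubmersive k := Acyclic0.univSubmersive_of_affine_generalizing k fun {T} u => by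
    intro a b' hb
    have hc' := (Acyclic0.shSubmersive_shConnected_of_discrete (s ≫ g) (pullback.snd k u)
      (pullback.fst k u ≫ pullback.fst (s ≫ g) b) (u ≫ b)
      ((IsPullback.of_hasPullback k u).paste_horiz hk)).2
    exact Acyclic0.exists_specializes_of_shConnected _ hc' a b' hb
  exact isEffective_of_refinement F' φ t ht hsub hφ fun G χ hχ => isEffective_of_shConnected k hs hc G χ hχ

end Groth.L27.EffDesc
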