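import Groth.Agent.L27.EffDesc.Refine

/-! # Effective descent along composites -/

universe u

open CategoryTheory CategoryTheory.Limits AlgebraicGeometry Opposite

set_option autoImplicit false
set_option backward.isDefEq.respectTransparency.types false
set_option linter.style.haveILetI false
set_option maxHeartbeats 2000000

noncomputable section

namespace Groth.L27.EffDesc

theorem isUnivSubmersive_of {P A : Scheme.{u}} {q : P ⟶ A} (hq : SGA1.UnivSubmersive q) :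
    EtDesc.IsUnivSubmersive q := fun Y u => by
  have h2 : Topology.IsQuotientMap (pullback.snd q u).base := hq _ _ _ (IsPullback.of_hasPullback q u).flip
  exact ⟨h2.surjective, h2⟩

variable {Z V X T T' : Scheme.{u}} (a : Z ⟶ V) (π : V ⟶ X) {h : Z ⟶ X} (hh : a ≫ π = h) (H : EtDesc.Sh Z)
  (φ : (EtDesc.pullSh (pullback.fst h h)).obj H ≅ (EtDesc.pullSh (pullback.snd h h)).obj H)

include hh in
theorem over_w (z₁ z₂ : T ⟶ Z) (w : z₁ ≫ a = z₂ ≫ a) : z₁ ≫ h = z₂ ≫ h := by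
  rw [← hh, reassoc_of% w]

/-- The restricted datum for the first map. -/
def datumLeft : (EtDesc.pullSh (pullback.fst a a)).obj H ≅ (EtDesc.pullSh (pullback.snd a a)).obj H :=
  datum H φ (pullback.fst a a) (pullback.snd a a) (over_w a π hh _ _ pullback.condition)

theorem isCocycle_left (hφ : EtDesc.IsCocycle H φ) : EtDesc.IsCocycle H (datumLeft a π hh H φ) := by
  show pb (EtDesc.p12 a) EtDesc.q1 EtDesc.q2 rfl rfl (datumLeft a π hh H φ).hom ≫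
    pb (EtDesc.p23 a) EtDesc.q2 EtDesc.q3 EtDesc.p23_fst rfl (datumLeft a π hh H φ).hom =
      pb (EtDesc.p13 a) EtDesc.q1 EtDesc.q3 EtDesc.p13_fst EtDesc.p13_snd (datumLeft a π hh H φ).hom
  have e12 : EtDesc.q1 (f := a) ≫ a = EtDesc.q2 ≫ a :=
    (Category.assoc _ _ _).trans ((congrArg (_ ≫ ·) pullback.condition).trans (Category.assoc _ _ _).symm)
  have e23 : EtDesc.q2 (f := a) ≫ a = EtDesc.q3 ≫ a :=
    (congrArg (· ≫ a) EtDesc.p23_fst.symm).trans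
      ((Category.assoc _ _ _).trans ((congrArg (_ ≫ ·) pullback.condition).trans (Category.assoc _ _ _).symm))
  rw [datumLeft, datum_pb H φ _ _ _ _ _ _ (over_w a π hh _ _ e12), datum_pb H φ _ _ _ _ _ _ (over_w a π hh _ _ e23),
    datum_pb H φ _ _ _ _ _ _ (over_w a π hh _ _ (e12.trans e23))]
  exact datum_trans H φ hφ _ _ _ _ _ _

variable (G : EtDesc.Sh V) (ψ : (EtDesc.pullSh a).obj G ≅ H)

/-- The comparison at a point of the source over a point of the middle scheme. -/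
def cmpE (z : T ⟶ Z) (v : T ⟶ V) (w : z ≫ a = v) : (EtDesc.pullSh z).obj H ≅ (EtDesc.pullSh v).obj G :=
  ((EtDesc.pullSh z).mapIso ψ).symm ≪≫ EtDesc.pullVia z a v w G

theorem cmpE_pb (m : T' ⟶ T) (z : T ⟶ Z) (v : T ⟶ V) (w : z ≫ a = v) (z' : T' ⟶ Z) (v' : T' ⟶ V)
    (wz : m ≫ z = z') (wv : m ≫ v = v') (w' : z' ≫ a = v') :
    pb m z' v' wz wv (cmpE a H G ψ z v w).hom = (cmpE a H G ψ z' v' w').hom := by
  show pb m z' v' wz wv ((EtDesc.pullSh z).map ψ.inv ≫ (EtDesc.pullVia z a v w G).hom) = _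
  rw [pb_comp m wz wz wv, pb_map, pb_pullVia m w wz wv w']
  rfl

variable (hψ : ((EtDesc.pullSh (pullback.fst a a)).mapIso ψ).symm ≪≫ EtDesc.canIso a G ≪≫
    (EtDesc.pullSh (pullback.snd a a)).mapIso ψ = datumLeft a π hh H φ)

include hψ in
theorem datum_eq_cmpE (z₁ z₂ : T ⟶ Z) (v : T ⟶ V) (w₁ : z₁ ≫ a = v) (w₂ : z₂ ≫ a = v) :
    (datum H φ z₁ z₂ (over_w a π hh z₁ z₂ (w₁.trans w₂.symm))).hom =
      (cmpE a H G ψ z₁ v w₁).hom ≫ (cmpE a H G ψ z₂ v w₂).inv := by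
  let t := pullback.lift z₁ z₂ (w₁.trans w₂.symm)
  have t₁ : t ≫ pullback.fst a a = z₁ := pullback.lift_fst _ _ _
  have t₂ : t ≫ pullback.snd a a = z₂ := pullback.lift_snd _ _ _
  have tv : t ≫ pullback.fst a a ≫ a = v := by rw [reassoc_of% t₁, w₁]
  have k := congrArg (fun e => pb t z₁ z₂ t₁ t₂ e.hom) hψ
  simp only [Iso.trans_hom, Iso.symm_hom, Functor.mapIso_inv, Functor.mapIso_hom] at k
  rw [datumLeft, datum_pb H φ t _ _ _ _ _ (over_w a π hh z₁ z₂ (w₁.trans w₂.symm)), EtDesc.canIso,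
    Iso.trans_hom, Iso.symm_hom, pb_comp t t₁ t₁ t₂, pb_comp t t₁ t₂ t₂,
    pb_comp t t₁ tv t₂, pb_map, pb_map, pb_pullVia t _ _ _ w₁, pb_pullVia_inv t _ _ _ w₂] at k
  rw [← k]
  simp [cmpE]

/-- The comparison between two points of the middle scheme, given by lifts. -/
def trans₂ (z₁ z₂ : T ⟶ Z) (v₁ v₂ : T ⟶ V) (w₁ : z₁ ≫ a = v₁) (w₂ : z₂ ≫ a = v₂) (w : z₁ ≫ h = z₂ ≫ h) :
    (EtDesc.pullSh v₁).obj G ≅ (EtDesc.pullSh v₂).obj G :=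
  (cmpE a H G ψ z₁ v₁ w₁).symm ≪≫ datum H φ z₁ z₂ w ≪≫ cmpE a H G ψ z₂ v₂ w₂

theorem trans₂_hom (z₁ z₂ : T ⟶ Z) (v₁ v₂ : T ⟶ V) (w₁ : z₁ ≫ a = v₁) (w₂ : z₂ ≫ a = v₂) (w : z₁ ≫ h = z₂ ≫ h) :
    (trans₂ a H φ G ψ z₁ z₂ v₁ v₂ w₁ w₂ w).hom = (cmpE a H G ψ z₁ v₁ w₁).inv ≫ (datum H φ z₁ z₂ w).hom ≫
      (cmpE a H G ψ z₂ v₂ w₂).hom := rfl

theorem trans₂_pb (m : T' ⟶ T) (z₁ z₂ : T ⟶ Z) (v₁ v₂ : T ⟶ V) (w₁ : z₁ ≫ a = v₁) (w₂ : z₂ ≫ a = v₂)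
    (w : z₁ ≫ h = z₂ ≫ h) (z₁' z₂' : T' ⟶ Z) (v₁' v₂' : T' ⟶ V) (w₁' : z₁' ≫ a = v₁') (w₂' : z₂' ≫ a = v₂')
    (w' : z₁' ≫ h = z₂' ≫ h) (e₁ : m ≫ z₁ = z₁') (e₂ : m ≫ z₂ = z₂') (f₁ : m ≫ v₁ = v₁') (f₂ : m ≫ v₂ = v₂') :
    pb m v₁' v₂' f₁ f₂ (trans₂ a H φ G ψ z₁ z₂ v₁ v₂ w₁ w₂ w).hom =
      (trans₂ a H φ G ψ z₁' z₂' v₁' v₂' w₁' w₂' w').hom := by
  rw [trans₂_hom, trans₂_hom, pb_comp m f₁ e₁ f₂, pb_comp m e₁ e₂ f₂,
    pb_iso m e₁ f₁ (cmpE a H G ψ z₁ v₁ w₁) _ (cmpE_pb a H G ψ m z₁ v₁ w₁ z₁' v₁' e₁ f₁ w₁'),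
    datum_pb H φ m _ _ _ _ _ w', cmpE_pb a H G ψ m z₂ v₂ w₂ z₂' v₂' e₂ f₂ w₂']

include hh hψ in
theorem trans₂_indep (hφ : EtDesc.IsCocycle H φ) (z₁ z₂ z₁' z₂' : T ⟶ Z) (v₁ v₂ : T ⟶ V) (w₁ : z₁ ≫ a = v₁)
    (w₂ : z₂ ≫ a = v₂) (w : z₁ ≫ h = z₂ ≫ h) (w₁' : z₁' ≫ a = v₁) (w₂' : z₂' ≫ a = v₂) (w' : z₁' ≫ h = z₂' ≫ h) :
    (trans₂ a H φ G ψ z₁ z₂ v₁ v₂ w₁ w₂ w).hom = (trans₂ a H φ G ψ z₁' z₂' v₁ v₂ w₁' w₂' w').hom := by
  have x : z₁ ≫ h = z₁' ≫ h := over_w a π hh _ _ (w₁.trans w₁'.symm)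
  have y : z₂' ≫ h = z₂ ≫ h := over_w a π hh _ _ (w₂'.trans w₂.symm)
  rw [trans₂_hom, trans₂_hom, ← datum_trans H φ hφ z₁ z₁' z₂ x (x.symm.trans w) w,
    ← datum_trans H φ hφ z₁' z₂' z₂ w' y (x.symm.trans w), datum_eq_cmpE a π hh H φ G ψ hψ z₁ z₁' v₁ w₁ w₁',
    datum_eq_cmpE a π hh H φ G ψ hψ z₂' z₂ v₂ w₂' w₂]
  simp only [Category.assoc, Iso.inv_hom_id_assoc, Iso.inv_hom_id, Category.comp_id]

theorem trans₂_trans (hφ : EtDesc.IsCocycle H φ) (z₁ z₂ z₃ : T ⟶ Z) (v₁ v₂ v₃ : T ⟶ V) (w₁ : z₁ ≫ a = v₁)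
    (w₂ : z₂ ≫ a = v₂) (w₃ : z₃ ≫ a = v₃) (x : z₁ ≫ h = z₂ ≫ h) (y : z₂ ≫ h = z₃ ≫ h) :
    (trans₂ a H φ G ψ z₁ z₂ v₁ v₂ w₁ w₂ x).hom ≫ (trans₂ a H φ G ψ z₂ z₃ v₂ v₃ w₂ w₃ y).hom =
      (trans₂ a H φ G ψ z₁ z₃ v₁ v₃ w₁ w₃ (x.trans y)).hom := by
  simp only [trans₂_hom, Category.assoc, Iso.hom_inv_id_assoc]
  rw [← Category.assoc (datum H φ z₁ z₂ x).hom, datum_trans H φ hφ _ _ _ _ _ (x.trans y)]

include hψ in
/-- The descent datum on the middle scheme. -/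
theorem exists_datum_middle (hsub : SGA1.UnivSubmersive a) [Surjective a] (hφ : EtDesc.IsCocycle H φ) :
    ∃ θ : (EtDesc.pullSh (pullback.fst π π)).obj G ≅ (EtDesc.pullSh (pullback.snd π π)).obj G,
      EtDesc.IsCocycle G θ ∧ ∀ {T : Scheme.{u}} (k : T ⟶ EtDesc.X2 π) (z₁ z₂ : T ⟶ Z) (v₁ v₂ : T ⟶ V)
        (w₁ : z₁ ≫ a = v₁) (w₂ : z₂ ≫ a = v₂) (w : z₁ ≫ h = z₂ ≫ h) (k₁ : k ≫ pullback.fst π π = v₁)
        (k₂ : k ≫ pullback.snd π π = v₂),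
        pb k v₁ v₂ k₁ k₂ θ.hom = (trans₂ a H φ G ψ z₁ z₂ v₁ v₂ w₁ w₂ w).hom := by
  haveI : SGA1.UnivSubmersive.{u}.IsStableUnderBaseChange :=
    MorphismProperty.universally_isStableUnderBaseChange _
  haveI : SGA1.UnivSubmersive.{u}.IsStableUnderComposition :=
    MorphismProperty.IsStableUnderComposition.universally (hP := ⟨fun f g hf hg => hg.comp hf⟩)
  let m₁ := pullback.snd a (pullback.fst π π)
  let m₂ := pullback.snd a (m₁ ≫ pullback.snd π π)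
  let m := m₂ ≫ m₁
  have hm : EtDesc.IsUnivSubmersive m := isUnivSubmersive_of (MorphismProperty.comp_mem _ _ _
    (MorphismProperty.pullback_snd (P := SGA1.UnivSubmersive) _ _ hsub)
    (MorphismProperty.pullback_snd (P := SGA1.UnivSubmersive) _ _ hsub))
  haveI : Surjective m₁ := MorphismProperty.pullback_snd (P := @Surjective) _ _ ‹_›
  haveI : Surjective m₂ := MorphismProperty.pullback_snd (P := @Surjective) _ _ ‹_›
  let z₁ := m₂ ≫ pullback.fst a (pullback.fst π π)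
  let z₂ := pullback.fst a (m₁ ≫ pullback.snd π π)
  let v₁ := m ≫ pullback.fst π π
  let v₂ := m ≫ pullback.snd π π
  have w₁ : z₁ ≫ a = v₁ := by simp only [z₁, v₁, m, m₁, Category.assoc, pullback.condition]
  have w₂ : z₂ ≫ a = v₂ := pullback.condition.trans (Category.assoc _ _ _).symm
  have w : z₁ ≫ h = z₂ ≫ h := by
    rw [← hh, reassoc_of% w₁, reassoc_of% w₂]
    simp only [v₁, v₂, Category.assoc, pullback.condition]
  let χ := EtDesc.pullVia m (pullback.fst π π) v₁ rfl G ≪≫ trans₂ a H φ G ψ z₁ z₂ v₁ v₂ w₁ w₂ w ≪≫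
    (EtDesc.pullVia m (pullback.snd π π) v₂ rfl G).symm
  let r₁ := pullback.fst m m
  let r₂ := pullback.snd m m
  let d := r₁ ≫ m
  have hd : r₂ ≫ m = d := pullback.condition.symm
  have hχ : (EtDesc.canIso m ((EtDesc.pullSh (pullback.fst π π)).obj G)).hom ≫ (EtDesc.pullSh r₂).map χ.hom =
      (EtDesc.pullSh r₁).map χ.hom ≫ (EtDesc.canIso m ((EtDesc.pullSh (pullback.snd π π)).obj G)).hom := by
    rw [canIso_eq, canIso_eq]
    refine descent_compat r₁ r₂ d rfl hd χ.hom ?_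
    have e : ∀ (r : pullback m m ⟶ _) (hr : r ≫ m = d), pb r d d hr hr χ.hom =
        (EtDesc.pullVia d (pullback.fst π π) (d ≫ pullback.fst π π) rfl G).hom ≫
          (trans₂ a H φ G ψ (r ≫ z₁) (r ≫ z₂) (d ≫ pullback.fst π π) (d ≫ pullback.snd π π)
            (by rw [Category.assoc, w₁, ← hr, Category.assoc]) (by rw [Category.assoc, w₂, ← hr, Category.assoc])
            ((Category.assoc _ _ _).trans ((congrArg (r ≫ ·) w).trans (Category.assoc _ _ _).symm))).hom ≫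
          (EtDesc.pullVia d (pullback.snd π π) (d ≫ pullback.snd π π) rfl G).inv := fun r hr => by
      have f₁ : r ≫ v₁ = d ≫ pullback.fst π π := by rw [← hr, Category.assoc]
      have f₂ : r ≫ v₂ = d ≫ pullback.snd π π := by rw [← hr, Category.assoc]
      simp only [χ, Iso.trans_hom, Iso.symm_hom]
      rw [pb_comp r hr f₁ hr, pb_comp r f₁ f₂ hr, pb_pullVia r rfl hr f₁ rfl, pb_pullVia_inv r rfl hr f₂ rfl,
        trans₂_pb a H φ G ψ r z₁ z₂ v₁ v₂ w₁ w₂ w (r ≫ z₁) (r ≫ z₂) _ _ _ _ _ rfl rfl f₁ f₂]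
    rw [e r₁ rfl, e r₂ hd, trans₂_indep a π hh H φ G ψ hψ hφ (r₁ ≫ z₁) (r₁ ≫ z₂) (r₂ ≫ z₁) (r₂ ≫ z₂)]
  obtain ⟨β, hβ, -⟩ := Groth.L27.EtSite.DescSections.exists_unique_desc m hm _ _ χ.hom hχ
  haveI := reflects_pullSh m
  haveI : IsIso ((EtDesc.pullSh m).map β) := hβ ▸ inferInstance
  haveI : IsIso β := isIso_of_reflects_iso β (EtDesc.pullSh m)
  have key : ∀ {T : Scheme.{u}} (k : T ⟶ EtDesc.X2 π) (y₁ y₂ : T ⟶ Z) (u₁ u₂ : T ⟶ V)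
      (x₁ : y₁ ≫ a = u₁) (x₂ : y₂ ≫ a = u₂) (x : y₁ ≫ h = y₂ ≫ h) (k₁ : k ≫ pullback.fst π π = u₁)
      (k₂ : k ≫ pullback.snd π π = u₂),
      pb k u₁ u₂ k₁ k₂ β = (trans₂ a H φ G ψ y₁ y₂ u₁ u₂ x₁ x₂ x).hom := fun {T} k y₁ y₂ u₁ u₂ x₁ x₂ x k₁ k₂ => by
    let t₁ := pullback.lift y₁ k (x₁.trans k₁.symm)
    let t := pullback.lift y₂ t₁ ((x₂.trans k₂.symm).trans
      ((congrArg (· ≫ pullback.snd π π) (pullback.lift_snd y₁ k (x₁.trans k₁.symm))).symm.trans (Category.assoc _ _ _)))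
    have tm : t ≫ m = k := (Category.assoc _ _ _).symm.trans
      ((congrArg (· ≫ m₁) (pullback.lift_snd _ _ _)).trans (pullback.lift_snd _ _ _))
    have tz₁ : t ≫ z₁ = y₁ := (Category.assoc _ _ _).symm.trans
      ((congrArg (· ≫ pullback.fst a (pullback.fst π π)) (pullback.lift_snd _ _ _)).trans (pullback.lift_fst _ _ _))
    have tz₂ : t ≫ z₂ = y₂ := pullback.lift_fst _ _ _
    have tv₁ : t ≫ v₁ = u₁ := by rw [← k₁, ← tm, Category.assoc]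
    have tv₂ : t ≫ v₂ = u₂ := by rw [← k₂, ← tm, Category.assoc]
    have e : pb m v₁ v₂ rfl rfl β = (trans₂ a H φ G ψ z₁ z₂ v₁ v₂ w₁ w₂ w).hom := by
      simp only [pb, hβ, χ, Iso.trans_hom, Iso.symm_hom, Category.assoc, Iso.inv_hom_id_assoc,
        Iso.inv_hom_id, Category.comp_id]
    rw [← pb_pb t m k tm (rfl : m ≫ _ = v₁) (rfl : m ≫ _ = v₂) tv₁ tv₂ k₁ k₂ β, e]
    exact trans₂_pb a H φ G ψ t z₁ z₂ v₁ v₂ w₁ w₂ w y₁ y₂ u₁ u₂ x₁ x₂ x tz₁ tz₂ tv₁ tv₂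
  refine ⟨asIso β, ?_, fun {T} k y₁ y₂ u₁ u₂ x₁ x₂ x k₁ k₂ => key k y₁ y₂ u₁ u₂ x₁ x₂ x k₁ k₂⟩
  show pb (EtDesc.p12 π) EtDesc.q1 EtDesc.q2 rfl rfl β ≫
    pb (EtDesc.p23 π) EtDesc.q2 EtDesc.q3 EtDesc.p23_fst rfl β =
      pb (EtDesc.p13 π) EtDesc.q1 EtDesc.q3 EtDesc.p13_fst EtDesc.p13_snd β
  let n₁ := pullback.snd a (EtDesc.q1 (f := π))
  let n₂ := pullback.snd a (n₁ ≫ EtDesc.q2)
  let n₃ := pullback.snd a (n₂ ≫ n₁ ≫ EtDesc.q3)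
  let n := n₃ ≫ n₂ ≫ n₁
  haveI : Surjective n₁ := MorphismProperty.pullback_snd (P := @Surjective) _ _ ‹_›
  haveI : Surjective n₂ := MorphismProperty.pullback_snd (P := @Surjective) _ _ ‹_›
  haveI : Surjective n₃ := MorphismProperty.pullback_snd (P := @Surjective) _ _ ‹_›
  let y₁ := n₃ ≫ n₂ ≫ pullback.fst a (EtDesc.q1 (f := π))
  let y₂ := n₃ ≫ pullback.fst a (n₁ ≫ EtDesc.q2)
  let y₃ := pullback.fst a (n₂ ≫ n₁ ≫ EtDesc.q3)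
  have x₁ : y₁ ≫ a = n ≫ EtDesc.q1 := by simp only [y₁, n, n₁, Category.assoc, pullback.condition]
  have x₂ : y₂ ≫ a = n ≫ EtDesc.q2 := by simp only [y₂, n, n₂, Category.assoc, pullback.condition]
  have x₃ : y₃ ≫ a = n ≫ EtDesc.q3 := by simp only [y₃, n, n₃, Category.assoc, pullback.condition]
  have e12 : (n ≫ EtDesc.q1 (f := π)) ≫ π = (n ≫ EtDesc.q2) ≫ π :=
    (Category.assoc _ _ _).trans ((congrArg (n ≫ ·) ((Category.assoc _ _ _).trans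
      ((congrArg (_ ≫ ·) pullback.condition).trans (Category.assoc _ _ _).symm))).trans (Category.assoc _ _ _).symm)
  have e23 : (n ≫ EtDesc.q2 (f := π)) ≫ π = (n ≫ EtDesc.q3) ≫ π :=
    (Category.assoc _ _ _).trans ((congrArg (n ≫ ·) ((congrArg (· ≫ π) EtDesc.p23_fst.symm).trans
      ((Category.assoc _ _ _).trans ((congrArg (_ ≫ ·) pullback.condition).trans (Category.assoc _ _ _).symm)))).trans
      (Category.assoc _ _ _).symm)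
  have h12 : y₁ ≫ h = y₂ ≫ h := by rw [← hh, reassoc_of% x₁, reassoc_of% x₂]; simpa only [Category.assoc] using e12
  have h23 : y₂ ≫ h = y₃ ≫ h := by rw [← hh, reassoc_of% x₂, reassoc_of% x₃]; simpa only [Category.assoc] using e23
  refine pb_injective n (a' := n ≫ EtDesc.q1) (b' := n ≫ EtDesc.q3) rfl rfl ?_
  rw [pb_comp n (rfl : n ≫ EtDesc.q1 = _) (rfl : n ≫ EtDesc.q2 = _) rfl,
    pb_pb n (EtDesc.p12 π) (n ≫ EtDesc.p12 π) rfl _ _ _ _ (Category.assoc _ _ _) (Category.assoc _ _ _),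
    pb_pb n (EtDesc.p23 π) (n ≫ EtDesc.p23 π) rfl _ _ _ _ ((Category.assoc _ _ _).trans (congrArg (n ≫ ·) EtDesc.p23_fst))
      (Category.assoc _ _ _),
    pb_pb n (EtDesc.p13 π) (n ≫ EtDesc.p13 π) rfl _ _ _ _ ((Category.assoc _ _ _).trans (congrArg (n ≫ ·) EtDesc.p13_fst))
      ((Category.assoc _ _ _).trans (congrArg (n ≫ ·) EtDesc.p13_snd)),
    key _ y₁ y₂ _ _ x₁ x₂ h12, key _ y₂ y₃ _ _ x₂ x₃ h23, key _ y₁ y₃ _ _ x₁ x₃ (h12.trans h23)]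
  exact trans₂_trans a H φ G ψ hφ y₁ y₂ y₃ _ _ _ x₁ x₂ x₃ h12 h23

include hh in
/-- Composites of effective descent morphisms are effective descent morphisms. -/
theorem isEffective_comp [Surjective a] (hsub : SGA1.UnivSubmersive a)
    (Ha : ∀ (χ : (EtDesc.pullSh (pullback.fst a a)).obj H ≅ (EtDesc.pullSh (pullback.snd a a)).obj H),
      EtDesc.IsCocycle H χ → EtDesc.IsEffective a H χ)
    (Hπ : ∀ (G : EtDesc.Sh V) (χ : (EtDesc.pullSh (pullback.fst π π)).obj G ≅ (EtDesc.pullSh (pullback.snd π π)).obj G),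
      EtDesc.IsCocycle G χ → EtDesc.IsEffective π G χ)
    (hφ : EtDesc.IsCocycle H φ) : EtDesc.IsEffective h H φ := by
  obtain ⟨G, ψ, hψ⟩ := Ha _ (isCocycle_left a π hh H φ hφ)
  obtain ⟨θ, hθ, hkey⟩ := exists_datum_middle a π hh H φ G ψ hψ hsub hφ
  obtain ⟨F, ψ', hψ'⟩ := Hπ G θ hθ
  refine ⟨F, (EtDesc.pullVia a π h hh F).symm ≪≫ (EtDesc.pullSh a).mapIso ψ' ≪≫ ψ, Iso.ext ?_⟩
  let z₁ := pullback.fst h h
  let z₂ := pullback.snd h h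
  let v₁ := z₁ ≫ a
  let v₂ := z₂ ≫ a
  let c := z₁ ≫ h
  have c₂ : z₂ ≫ h = c := pullback.condition.symm
  have p₁ : v₁ ≫ π = c := by simp only [v₁, c, Category.assoc, hh]
  have p₂ : v₂ ≫ π = c := by simp only [v₂, Category.assoc, hh, c₂]
  let k := pullback.lift v₁ v₂ (p₁.trans p₂.symm)
  have k₁ : k ≫ pullback.fst π π = v₁ := pullback.lift_fst _ _ _
  have k₂ : k ≫ pullback.snd π π = v₂ := pullback.lift_snd _ _ _
  have kc : k ≫ pullback.fst π π ≫ π = c := by rw [reassoc_of% k₁, p₁]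
  have e := hkey k z₁ z₂ v₁ v₂ rfl rfl pullback.condition k₁ k₂
  rw [← hψ', Iso.trans_hom, Iso.trans_hom, Iso.symm_hom, Functor.mapIso_inv, Functor.mapIso_hom,
    pb_comp k k₁ k₁ k₂, pb_comp k k₁ k₂ k₂, pb_map, pb_map, EtDesc.canIso, Iso.trans_hom, Iso.symm_hom,
    pb_comp k k₁ kc k₂, pb_pullVia k _ _ _ p₁, pb_pullVia_inv k _ _ _ p₂, trans₂_hom] at e
  have hD : (datum H φ z₁ z₂ pullback.condition).hom = (cmpE a H G ψ z₁ v₁ rfl).hom ≫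
      ((EtDesc.pullSh v₁).map ψ'.inv ≫ ((EtDesc.pullVia v₁ π c p₁ F).hom ≫ (EtDesc.pullVia v₂ π c p₂ F).inv) ≫
        (EtDesc.pullSh v₂).map ψ'.hom) ≫ (cmpE a H G ψ z₂ v₂ rfl).inv := by
    rw [e]
    simp only [Category.assoc, Iso.hom_inv_id_assoc, Iso.hom_inv_id, Category.comp_id]
  refine pb_injective (𝟙 _) (a' := z₁) (b' := z₂) (Category.id_comp _) (Category.id_comp _) ?_
  rw [datum_eq_pb H φ z₁ z₂ pullback.condition (𝟙 _) (Category.id_comp _) (Category.id_comp _), hD]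
  simp only [Iso.trans_hom, Iso.symm_hom, Functor.mapIso_inv, Functor.mapIso_hom, Iso.trans_inv,
    Iso.symm_inv, EtDesc.canIso]
  rw [pb_comp (𝟙 _) (Category.id_comp z₁) (Category.id_comp z₁) (Category.id_comp z₂),
    pb_comp (𝟙 _) (Category.id_comp z₁) (Category.id_comp z₂) (Category.id_comp z₂),
    pb_comp (𝟙 _) (Category.id_comp z₁) (Category.id_comp c) (Category.id_comp z₂), pb_map, pb_map,
    pb_pullVia (𝟙 _) _ _ _ rfl, pb_pullVia_inv (𝟙 _) _ _ _ c₂]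
  have A₁ := pullVia_assoc z₁ a π h hh v₁ rfl c rfl p₁ F
  have A₂ := pullVia_assoc z₂ a π h hh v₂ rfl c c₂ p₂ F
  have N₁ := Groth.L27.EtSite.DescCan.pullVia_nat z₁ a v₁ rfl ψ'.inv
  have N₂ := Groth.L27.EtSite.DescCan.pullVia_nat z₂ a v₂ rfl ψ'.hom
  have B₂ : (EtDesc.pullVia z₂ h c c₂ F).inv ≫ (EtDesc.pullSh z₂).map (EtDesc.pullVia a π h hh F).inv =
      (EtDesc.pullVia v₂ π c p₂ F).inv ≫ (EtDesc.pullVia z₂ a v₂ rfl ((EtDesc.pullSh π).obj F)).inv := by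
    rw [← cancel_epi ((EtDesc.pullVia z₂ a v₂ rfl ((EtDesc.pullSh π).obj F)).hom ≫ (EtDesc.pullVia v₂ π c p₂ F).hom)]
    conv_lhs => rw [← A₂]
    simp only [Category.assoc, Iso.hom_inv_id_assoc, Iso.hom_inv_id, ← Functor.map_comp, CategoryTheory.Functor.map_id]
  simp only [cmpE, Iso.trans_hom, Iso.trans_inv, Iso.symm_hom, Iso.symm_inv, Functor.mapIso_inv, Functor.mapIso_hom,
    Functor.map_comp, Category.assoc]
  rw [reassoc_of% A₁, reassoc_of% B₂]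
  rw [← reassoc_of% N₁]
  congr 5
  rw [Iso.inv_comp_eq, reassoc_of% N₂, Iso.hom_inv_id_assoc]

end Groth.L27.EffDesc
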