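import Groth.Agent.L27.EtSite.DescTop
import Groth.Agent.L27.EtSite.BaseChangeIso
import Groth.Agent.L27.EtSite.Common
import Groth.Agent.L27.EtSite.Pull
import Groth.Agent.L27.EtSite.Points

/-! # Pulled back sections as elements over scheme maps -/

universe u

open CategoryTheory CategoryTheory.Limits AlgebraicGeometry Opposite

set_option autoImplicit false
set_option backward.isDefEq.respectTransparency.types false
set_option linter.style.haveILetI false

noncomputable section

namespace Groth.L27.EffDesc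

open Groth.L27.EtSite Groth.L27.EtSite.DescCan

variable {T S : Scheme.{u}} (g : T ⟶ S)

/-- The map to a base change given by a map of schemes over `g`. -/
abbrev toBc {U : S.Etale} {W : T.Etale} (l : W.left ⟶ U.left) (hl : l ≫ U.hom = W.hom ≫ g) :
    W ⟶ (EtCoh.bc g).obj U :=
  MorphismProperty.Over.homMk (pullback.lift l W.hom hl) (pullback.lift_snd _ _ _)

theorem toBc_fst {U : S.Etale} {W : T.Etale} (l : W.left ⟶ U.left) (hl : l ≫ U.hom = W.hom ≫ g) :
    (toBc g l hl).left ≫ pullback.fst U.hom g = l := pullback.lift_fst _ _ _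

theorem hom_ext_fst {U : S.Etale} {W : T.Etale} {c c' : W ⟶ (EtCoh.bc g).obj U}
    (h : c.left ≫ pullback.fst U.hom g = c'.left ≫ pullback.fst U.hom g) : c = c' :=
  MorphismProperty.Over.Hom.ext (pullback.hom_ext h ((MorphismProperty.Over.w c).trans (MorphismProperty.Over.w c').symm))

theorem map_fst {U U' : S.Etale} (d : U ⟶ U') :
    ((EtCoh.bc g).map d).left ≫ pullback.fst U'.hom g = pullback.fst U.hom g ≫ d.left :=
  pullback.lift_fst _ _ _

variable (G : EtDesc.Sh S)

/-- The pullback of a section along a map of schemes over `g`. -/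
def el {U : S.Etale} {W : T.Etale} (l : W.left ⟶ U.left) (hl : l ≫ U.hom = W.hom ≫ g)
    (s : G.obj.obj (op U)) : ((EtDesc.pullSh g).obj G).obj.obj (op W) :=
  ((EtDesc.pullSh g).obj G).obj.map (toBc g l hl).op (se g G U s)

theorem el_congr {U : S.Etale} {W : T.Etale} {l l' : W.left ⟶ U.left} (hl : l ≫ U.hom = W.hom ≫ g)
    (hl' : l' ≫ U.hom = W.hom ≫ g) (h : l = l') (s : G.obj.obj (op U)) : el g G l hl s = el g G l' hl' s := by
  subst h; rfl

theorem el_se (U : S.Etale) (s : G.obj.obj (op U)) :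
    se g G U s = el g G (W := (EtCoh.bc g).obj U) (pullback.fst U.hom g) pullback.condition s := by
  unfold el
  rw [show toBc g (W := (EtCoh.bc g).obj U) (pullback.fst U.hom g) pullback.condition = 𝟙 _ from
    hom_ext_fst g ((toBc_fst g _ _).trans (Category.id_comp _).symm), map_id']

theorem el_map_left {U : S.Etale} {W W' : T.Etale} (c : W' ⟶ W) (l : W.left ⟶ U.left)
    (hl : l ≫ U.hom = W.hom ≫ g) (hl' : (c.left ≫ l) ≫ U.hom = W'.hom ≫ g) (s : G.obj.obj (op U)) :
    ((EtDesc.pullSh g).obj G).obj.map c.op (el g G l hl s) = el g G (c.left ≫ l) hl' s := by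
  refine map_map _ _ _ (hom_ext_fst g ?_) _
  rw [toBc_fst]
  exact (Category.assoc _ _ _).trans (congrArg (c.left ≫ ·) (toBc_fst g l hl))

theorem el_map_right {U U' : S.Etale} {W : T.Etale} (d : U ⟶ U') (l : W.left ⟶ U.left)
    (hl : l ≫ U.hom = W.hom ≫ g) (hl' : (l ≫ d.left) ≫ U'.hom = W.hom ≫ g) (s : G.obj.obj (op U')) :
    el g G l hl (G.obj.map d.op s) = el g G (l ≫ d.left) hl' s := by
  unfold el
  rw [DescCan.se_naturality]
  refine map_map _ _ _ (hom_ext_fst g ?_) _
  rw [toBc_fst]
  exact (Category.assoc _ _ _).trans ((congrArg (_ ≫ ·) (map_fst g d)).trans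
    ((Category.assoc _ _ _).symm.trans (congrArg (· ≫ d.left) (toBc_fst g l hl))))

theorem app_el {G' : EtDesc.Sh S} (α : G ⟶ G') {U : S.Etale} {W : T.Etale} (l : W.left ⟶ U.left)
    (hl : l ≫ U.hom = W.hom ≫ g) (s : G.obj.obj (op U)) :
    ((EtDesc.pullSh g).map α).hom.app (op W) (el g G l hl s) = el g G' l hl (α.hom.app (op U) s) := by
  unfold el
  rw [DescSections.se_map]
  exact NatTrans.naturality_apply ((EtDesc.pullSh g).map α).hom (toBc g l hl).op _

/-- Every section of an inverse image is locally pulled back. -/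
theorem exists_el {W : T.Etale} (t : ((EtDesc.pullSh g).obj G).obj.obj (op W)) (q : W.left) :
    ∃ (W' : T.Etale) (d : W' ⟶ W) (q' : W'.left) (U : S.Etale) (l : W'.left ⟶ U.left)
      (hl : l ≫ U.hom = W'.hom ≫ g) (s : G.obj.obj (op U)),
      d.left q' = q ∧ ((EtDesc.pullSh g).obj G).obj.map d.op t = el g G l hl s := by
  let c : W ⟶ (EtCoh.bc g).obj (EtCoh.top S) := toBc g (W.hom ≫ g) (Category.comp_id _)
  obtain ⟨U, a, W', d, e, q', s, hd, -, he⟩ := DescCan.exists_local' g G c t q
  refine ⟨W', d, q', U, e.left ≫ pullback.fst U.hom g, ?_, s, hd, ?_⟩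
  · exact (Category.assoc _ _ _).trans ((congrArg (_ ≫ ·) pullback.condition).trans
      ((Category.assoc _ _ _).symm.trans (congrArg (· ≫ g) (MorphismProperty.Over.w e))))
  · rw [he]
    refine congrArg (fun k => ((EtDesc.pullSh g).obj G).obj.map k.op (se g G U s)) (hom_ext_fst g ?_)
    exact (toBc_fst g _ _).symm

/-- Morphisms out of an inverse image are determined by pulled back sections. -/
theorem hom_ext_el {H : EtDesc.Sh T} {α β : (EtDesc.pullSh g).obj G ⟶ H}
    (h : ∀ (W : T.Etale) (U : S.Etale) (l : W.left ⟶ U.left) (hl : l ≫ U.hom = W.hom ≫ g) (s : G.obj.obj (op U)),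
      α.hom.app (op W) (el g G l hl s) = β.hom.app (op W) (el g G l hl s)) : α = β := by
  refine ((EtDesc.adjSh g).homEquiv _ _).injective ?_
  rw [Adjunction.homEquiv_unit, Adjunction.homEquiv_unit]
  refine CategoryTheory.Sheaf.hom_ext (NatTrans.ext (funext fun ⟨U⟩ => ConcreteCategory.hom_ext _ _ fun s => ?_))
  show α.hom.app _ (se g G U s) = β.hom.app _ (se g G U s)
  rw [el_se]
  exact h _ _ _ _ _

/-- Pullback of sections along composites. -/
theorem pullVia_el {X : Scheme.{u}} (a : S ⟶ X) (b : T ⟶ X) (w : g ≫ a = b) (F : EtDesc.Sh X) {U : S.Etale}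
    {V : X.Etale} {W : T.Etale} (l : W.left ⟶ U.left) (hl : l ≫ U.hom = W.hom ≫ g) (k : U.left ⟶ V.left)
    (hk : k ≫ V.hom = U.hom ≫ a) (hlk : (l ≫ k) ≫ V.hom = W.hom ≫ b) (s : F.obj.obj (op V)) :
    (EtDesc.pullVia g a b w F).hom.hom.app (op W) (el g ((EtDesc.pullSh a).obj F) l hl (el a F k hk s)) =
      el b F (l ≫ k) hlk s := by
  show (EtDesc.pullVia g a b w F).hom.hom.app (op W)
    (el g ((EtDesc.pullSh a).obj F) l hl (((EtDesc.pullSh a).obj F).obj.map (toBc a k hk).op (se a F V s))) = _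
  have hl' : (l ≫ (toBc a k hk).left) ≫ ((EtCoh.bc a).obj V).hom = W.hom ≫ g :=
    (Category.assoc _ _ _).trans ((congrArg (l ≫ ·) (MorphismProperty.Over.w (toBc a k hk))).trans hl)
  rw [el_map_right g _ (toBc a k hk) l hl hl']
  refine (NatTrans.naturality_apply (EtDesc.pullVia g a b w F).hom.hom (toBc g _ hl').op _).trans ?_
  refine (congrArg _ (pullVia_eta g a w F V s)).trans ?_
  refine map_map _ _ _ (hom_ext_fst b ?_) _
  rw [toBc_fst]
  refine (Category.assoc _ _ _).trans ((congrArg (_ ≫ ·) (cmp_fst g a w V)).trans ?_)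
  refine (Category.assoc _ _ _).symm.trans ((congrArg (· ≫ pullback.fst V.hom a) (toBc_fst g _ hl')).trans ?_)
  exact (Category.assoc _ _ _).trans (congrArg (l ≫ ·) (toBc_fst a k hk))

/-- Sections of sheaves agreeing locally agree. -/
theorem sect_ext (F : EtDesc.Sh S) {U : S.Etale} {s t : F.obj.obj (op U)}
    (h : ∀ x : U.left, ∃ (V : S.Etale) (c : V ⟶ U) (v : V.left),
      c.left v = x ∧ F.obj.map c.op s = F.obj.map c.op t) : s = t :=
  ext_of_locally F h

/-- Monomorphisms of sheaves of sets are injective on sections. -/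
theorem injective_app_of_mono {A B : EtDesc.Sh S} (α : A ⟶ B) [Mono α] (U : S.Etale) :
    Function.Injective (α.hom.app (op U)) := by
  haveI : Mono ((sheafToPresheaf _ _).map α) := inferInstance
  haveI : Mono (α.hom.app (op U)) := inferInstanceAs (Mono (((sheafToPresheaf _ _).map α).app (op U)))
  exact (mono_iff_injective _).1 inferInstance

/-- Morphisms of sheaves of sets which are injective on sections are monomorphisms. -/
theorem mono_of_injective_app {A B : EtDesc.Sh S} (α : A ⟶ B)
    (h : ∀ U : S.Etale, Function.Injective (α.hom.app (op U))) : Mono α := by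
  refine ⟨fun {Z} z w e => ?_⟩
  refine CategoryTheory.Sheaf.hom_ext (NatTrans.ext (funext fun ⟨U⟩ => ConcreteCategory.hom_ext _ _ fun s => h U ?_))
  exact congrArg (fun φ : Z ⟶ B => φ.hom.app (op U) s) e

/-- The unit of a surjective morphism is a monomorphism. -/
theorem mono_unit [Surjective g] : Mono ((EtDesc.adjSh g).unit.app G) :=
  mono_of_injective_app _ fun U => EtaLocal.injective_eta g G U

variable {X Y X' Y' : Scheme.{u}} (f : X ⟶ Y) (g₀ : Y' ⟶ Y) (f' : X' ⟶ Y') (g' : X' ⟶ X)

/-- Base change maps on pulled back sections. -/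
theorem baseChange0Sh_el (w : g' ≫ f = f' ≫ g₀) (F : EtDesc.Sh X) {V : Y.Etale} {W : Y'.Etale}
    (l : W.left ⟶ V.left) (hl : l ≫ V.hom = W.hom ≫ g₀) (L : ((EtCoh.bc f').obj W).left ⟶ ((EtCoh.bc f).obj V).left)
    (hL : L ≫ ((EtCoh.bc f).obj V).hom = ((EtCoh.bc f').obj W).hom ≫ g')
    (hL' : L ≫ pullback.fst V.hom f = pullback.fst W.hom f' ≫ l)
    (t : F.obj.obj (op ((EtCoh.bc f).obj V))) :
    (EtBC.baseChange0Sh f g₀ f' g' w F).hom.app (op W) (el g₀ ((EtDesc.pushSh f).obj F) l hl t) =
      el g' F L hL t := by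
  have hse : (EtBC.baseChange0Sh f g₀ f' g' w F).hom.app (op ((EtCoh.bc g₀).obj V))
      (se g₀ ((EtDesc.pushSh f).obj F) V t) =
      ((EtDesc.pullSh g').obj F).obj.map (BC.swap w V).op (se g' F ((EtCoh.bc f).obj V) t) := by
    have h1 := congrArg (fun φ => φ.hom.app (op V) t)
      ((Adjunction.homEquiv_unit (adj := EtDesc.adjSh g₀) (f := EtBC.baseChange0Sh f g₀ f' g' w F)).symm.trans
        (Equiv.apply_symm_apply _ _))
    refine h1.trans ?_
    rw [← BC.swap_eq w V]
    exact BC.map_map_map ((EtDesc.pullSh g').obj F).obj _ _ _ _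
  refine (NatTrans.naturality_apply (EtBC.baseChange0Sh f g₀ f' g' w F).hom (toBc g₀ l hl).op _).trans ?_
  refine (congrArg _ hse).trans ?_
  refine map_map _ _ _ (hom_ext_fst g' (pullback.hom_ext ?_ ?_)) _
  · refine Eq.trans ?_ ((congrArg (· ≫ pullback.fst V.hom f) (toBc_fst g' L hL)).trans hL').symm
    calc _ = ((EtCoh.bc f').map (toBc g₀ l hl)).left ≫
          ((BC.swap w V).left ≫ pullback.fst ((EtCoh.bc f).obj V).hom g' ≫ pullback.fst V.hom f) :=
          (Category.assoc _ _ _).trans (Category.assoc _ _ _)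
      _ = ((EtCoh.bc f').map (toBc g₀ l hl)).left ≫
          (pullback.fst (pullback.snd V.hom g₀) f' ≫ pullback.fst V.hom g₀) :=
          congrArg (_ ≫ ·) ((Category.assoc _ _ _).symm.trans
            ((congrArg (· ≫ pullback.fst V.hom f) (pullback.lift_fst _ _ _)).trans (pullback.lift_fst _ _ _)))
      _ = (pullback.fst W.hom f' ≫ (toBc g₀ l hl).left) ≫ pullback.fst V.hom g₀ :=
          (Category.assoc _ _ _).symm.trans (congrArg (· ≫ pullback.fst V.hom g₀) (map_fst f' (toBc g₀ l hl)))
      _ = pullback.fst W.hom f' ≫ l := (Category.assoc _ _ _).trans (congrArg (_ ≫ ·) (toBc_fst g₀ l hl))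
  · refine Eq.trans ?_ ((congrArg (· ≫ pullback.snd V.hom f) (toBc_fst g' L hL)).trans hL).symm
    calc _ = ((EtCoh.bc f').map (toBc g₀ l hl)).left ≫
          ((BC.swap w V).left ≫ pullback.fst ((EtCoh.bc f).obj V).hom g' ≫ pullback.snd V.hom f) :=
          (Category.assoc _ _ _).trans (Category.assoc _ _ _)
      _ = ((EtCoh.bc f').map (toBc g₀ l hl)).left ≫ (pullback.snd (pullback.snd V.hom g₀) f' ≫ g') :=
          congrArg (_ ≫ ·) ((Category.assoc _ _ _).symm.trans
            ((congrArg (· ≫ pullback.snd V.hom f) (pullback.lift_fst _ _ _)).trans (pullback.lift_snd _ _ _)))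
      _ = _ := (Category.assoc _ _ _).symm.trans
          (congrArg (· ≫ g') (MorphismProperty.Over.w ((EtCoh.bc f').map (toBc g₀ l hl))))

variable {g}

/-- Inverse image preserves equalizers. -/
theorem isIso_equalizerComparison {A B : EtDesc.Sh S} (a b : A ⟶ B) :
    IsIso (equalizerComparison a b (EtDesc.pullSh g)) := by
  refine isIso_of_some_stalks _ fun x => ?_
  obtain ⟨Ω, _, _, ξ, rfl⟩ := exists_geometric_point x
  refine ⟨Ω, inferInstance, inferInstance, ξ, rfl, ?_⟩
  let Φ := (Scheme.pointSmallEtale ξ).sheafFiber (A := Type (u + 1))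
  haveI : PreservesFiniteLimits (EtDesc.pullSh g ⋙ Φ) :=
    preservesFiniteLimits_of_natIso (stalkPullShIso g ξ).symm
  have h : Φ.map (equalizerComparison a b (EtDesc.pullSh g)) ≫
      equalizerComparison ((EtDesc.pullSh g).map a) ((EtDesc.pullSh g).map b) Φ =
        equalizerComparison a b (EtDesc.pullSh g ⋙ Φ) := by
    apply equalizer.hom_ext
    rw [Category.assoc, equalizerComparison_comp_π, ← Φ.map_comp, equalizerComparison_comp_π]
    exact (equalizerComparison_comp_π a b (EtDesc.pullSh g ⋙ Φ)).symm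
  haveI : IsIso (Φ.map (equalizerComparison a b (EtDesc.pullSh g))) := by
    haveI : IsIso (Φ.map (equalizerComparison a b (EtDesc.pullSh g)) ≫
      equalizerComparison ((EtDesc.pullSh g).map a) ((EtDesc.pullSh g).map b) Φ) := h.symm ▸ inferInstance
    exact IsIso.of_isIso_comp_right _ (equalizerComparison ((EtDesc.pullSh g).map a) ((EtDesc.pullSh g).map b) Φ)
  exact (CategoryTheory.isIso_iff_bijective _).1 ‹_›

end Groth.L27.EffDesc
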