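import Groth.Agent.L27.EffDesc.Transport
import Groth.Agent.L27.EtSite.DescTop
import Groth.Agent.L27.TopInv.Hom

/-! # Effective descent can be tested on refinements -/

universe u

open CategoryTheory CategoryTheory.Limits AlgebraicGeometry Opposite

set_option autoImplicit false
set_option backward.isDefEq.respectTransparency.types false
set_option linter.style.haveILetI false

noncomputable section

namespace Groth.L27.EffDesc

variable {X' X Z T T' : Scheme.{u}} {f : X' ⟶ X} (F' : EtDesc.Sh X')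
  (φ : (EtDesc.pullSh (pullback.fst f f)).obj F' ≅ (EtDesc.pullSh (pullback.snd f f)).obj F')

/-- The datum between two points of the source over a common point of the base. -/
def datum (a b : T ⟶ X') (w : a ≫ f = b ≫ f) : (EtDesc.pullSh a).obj F' ≅ (EtDesc.pullSh b).obj F' :=
  (EtDesc.pullVia (pullback.lift a b w) (pullback.fst f f) a (pullback.lift_fst _ _ _) F').symm ≪≫
    (EtDesc.pullSh (pullback.lift a b w)).mapIso φ ≪≫
      EtDesc.pullVia (pullback.lift a b w) (pullback.snd f f) b (pullback.lift_snd _ _ _) F'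

theorem datum_eq_pb (a b : T ⟶ X') (w : a ≫ f = b ≫ f) (m : T ⟶ EtDesc.X2 f) (ha : m ≫ pullback.fst f f = a)
    (hb : m ≫ pullback.snd f f = b) : pb m a b ha hb φ.hom = (datum F' φ a b w).hom :=
  (pb_congr (pullback.hom_ext (ha.trans (pullback.lift_fst a b w).symm) (hb.trans (pullback.lift_snd a b w).symm))
    _ _ (pullback.lift_fst _ _ _) (pullback.lift_snd _ _ _) φ.hom).trans rfl

theorem datum_pb (m : T' ⟶ T) (a b : T ⟶ X') (w : a ≫ f = b ≫ f) (a' b' : T' ⟶ X') (w' : a' ≫ f = b' ≫ f)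
    (wa : m ≫ a = a') (wb : m ≫ b = b') : pb m a' b' wa wb (datum F' φ a b w).hom = (datum F' φ a' b' w').hom := by
  refine ((congrArg (pb m a' b' wa wb)
    (datum_eq_pb F' φ a b w (pullback.lift a b w) (pullback.lift_fst _ _ _) (pullback.lift_snd _ _ _)).symm).trans
    (pb_pb m (pullback.lift a b w) (m ≫ pullback.lift a b w) rfl _ _ _ _
      ((Category.assoc _ _ _).trans ((congrArg (m ≫ ·) (pullback.lift_fst _ _ _)).trans wa))
      ((Category.assoc _ _ _).trans ((congrArg (m ≫ ·) (pullback.lift_snd _ _ _)).trans wb)) φ.hom)).trans ?_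
  exact datum_eq_pb F' φ a' b' w' _ _ _

theorem datum_trans (hφ : EtDesc.IsCocycle F' φ) (a b c : T ⟶ X') (w₁ : a ≫ f = b ≫ f) (w₂ : b ≫ f = c ≫ f)
    (w₃ : a ≫ f = c ≫ f) : (datum F' φ a b w₁).hom ≫ (datum F' φ b c w₂).hom = (datum F' φ a c w₃).hom := by
  let t : T ⟶ EtDesc.X3 f := pullback.lift (pullback.lift a b w₁) (pullback.lift b c w₂)
    ((pullback.lift_snd _ _ _).trans (pullback.lift_fst _ _ _).symm)
  have ha : t ≫ EtDesc.q1 = a := (Category.assoc _ _ _).symm.trans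
    ((congrArg (· ≫ pullback.fst f f) (pullback.lift_fst _ _ _)).trans (pullback.lift_fst _ _ _))
  have hb : t ≫ EtDesc.q2 = b := (Category.assoc _ _ _).symm.trans
    ((congrArg (· ≫ pullback.snd f f) (pullback.lift_fst _ _ _)).trans (pullback.lift_snd _ _ _))
  have hc : t ≫ EtDesc.q3 = c := (Category.assoc _ _ _).symm.trans
    ((congrArg (· ≫ pullback.snd f f) (pullback.lift_snd _ _ _)).trans (pullback.lift_snd _ _ _))
  have k1 : pb (EtDesc.p12 f) EtDesc.q1 EtDesc.q2 rfl rfl φ.hom ≫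
      pb (EtDesc.p23 f) EtDesc.q2 EtDesc.q3 EtDesc.p23_fst rfl φ.hom =
        pb (EtDesc.p13 f) EtDesc.q1 EtDesc.q3 EtDesc.p13_fst EtDesc.p13_snd φ.hom := hφ
  have k2 := congrArg (pb t a c ha hc) k1
  rw [pb_comp t ha hb hc, pb_pb t (EtDesc.p12 f) (t ≫ EtDesc.p12 f) rfl _ _ _ _ ((Category.assoc _ _ _).trans ha) ((Category.assoc _ _ _).trans hb),
    pb_pb t (EtDesc.p23 f) (t ≫ EtDesc.p23 f) rfl _ _ _ _
      ((Category.assoc _ _ _).trans ((congrArg (t ≫ ·) EtDesc.p23_fst).trans hb)) ((Category.assoc _ _ _).trans hc),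
    pb_pb t (EtDesc.p13 f) (t ≫ EtDesc.p13 f) rfl _ _ _ _
      ((Category.assoc _ _ _).trans ((congrArg (t ≫ ·) EtDesc.p13_fst).trans ha))
      ((Category.assoc _ _ _).trans ((congrArg (t ≫ ·) EtDesc.p13_snd).trans hc)),
    datum_eq_pb F' φ a b w₁, datum_eq_pb F' φ b c w₂, datum_eq_pb F' φ a c w₃] at k2
  exact k2

theorem canIso_eq {P A : Scheme.{u}} (q : P ⟶ A) (G : EtDesc.Sh A) : EtDesc.canIso q G =
    EtDesc.pullVia (pullback.fst q q) q (pullback.fst q q ≫ q) rfl G ≪≫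
      (EtDesc.pullVia (pullback.snd q q) q (pullback.fst q q ≫ q) pullback.condition.symm G).symm :=
  Groth.L27.EtSite.DescCan.canIso_def q G

theorem descent_compat {P A : Scheme.{u}} {q : P ⟶ A} (r₁ r₂ : T ⟶ P) (d : T ⟶ A) (w₁ : r₁ ≫ q = d)
    (w₂ : r₂ ≫ q = d) {G H : EtDesc.Sh A} (χ : (EtDesc.pullSh q).obj G ⟶ (EtDesc.pullSh q).obj H)
    (e : pb r₁ d d w₁ w₁ χ = pb r₂ d d w₂ w₂ χ) :
    (EtDesc.pullVia r₁ q d w₁ G ≪≫ (EtDesc.pullVia r₂ q d w₂ G).symm).hom ≫ (EtDesc.pullSh r₂).map χ =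
      (EtDesc.pullSh r₁).map χ ≫ (EtDesc.pullVia r₁ q d w₁ H ≪≫ (EtDesc.pullVia r₂ q d w₂ H).symm).hom := by
  simp only [pb] at e
  simp only [Iso.trans_hom, Iso.symm_hom, Category.assoc]
  rw [← cancel_mono (EtDesc.pullVia r₂ q d w₂ H).hom, ← cancel_epi (EtDesc.pullVia r₁ q d w₁ G).inv]
  simp only [Category.assoc, Iso.inv_hom_id_assoc, Iso.inv_hom_id, Category.comp_id]
  exact e.symm

variable (g : Z ⟶ X') {h : Z ⟶ X} (hh : g ≫ f = h)

include hh in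
theorem point_w (z : T ⟶ Z) {x : T ⟶ X'} (w : z ≫ h = x ≫ f) : (z ≫ g) ≫ f = x ≫ f := by
  rw [Category.assoc, hh, w]

/-- The datum on a refinement. -/
def datumRefine : (EtDesc.pullSh (pullback.fst h h)).obj ((EtDesc.pullSh g).obj F') ≅
    (EtDesc.pullSh (pullback.snd h h)).obj ((EtDesc.pullSh g).obj F') :=
  EtDesc.pullVia (pullback.fst h h) g (pullback.fst h h ≫ g) rfl F' ≪≫
    datum F' φ (pullback.fst h h ≫ g) (pullback.snd h h ≫ g)
      (by rw [Category.assoc, Category.assoc, hh, pullback.condition]) ≪≫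
    (EtDesc.pullVia (pullback.snd h h) g (pullback.snd h h ≫ g) rfl F').symm

theorem datumRefine_pb (m : T ⟶ EtDesc.X2 h) (z₁ z₂ : T ⟶ Z) (h₁ : m ≫ pullback.fst h h = z₁)
    (h₂ : m ≫ pullback.snd h h = z₂) (w : (z₁ ≫ g) ≫ f = (z₂ ≫ g) ≫ f) :
    pb m z₁ z₂ h₁ h₂ (datumRefine F' φ g hh).hom = (EtDesc.pullVia z₁ g (z₁ ≫ g) rfl F').hom ≫
      (datum F' φ (z₁ ≫ g) (z₂ ≫ g) w).hom ≫ (EtDesc.pullVia z₂ g (z₂ ≫ g) rfl F').inv := by
  show pb m z₁ z₂ h₁ h₂ ((EtDesc.pullVia _ g _ rfl F').hom ≫ (datum F' φ _ _ _).hom ≫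
    (EtDesc.pullVia _ g _ rfl F').inv) = _
  rw [pb_comp m h₁ (show m ≫ pullback.fst h h ≫ g = z₁ ≫ g by rw [reassoc_of% h₁]) h₂,
    pb_comp m (show m ≫ pullback.fst h h ≫ g = z₁ ≫ g by rw [reassoc_of% h₁])
      (show m ≫ pullback.snd h h ≫ g = z₂ ≫ g by rw [reassoc_of% h₂]) h₂,
    pb_pullVia m rfl h₁ _ rfl F', pb_pullVia_inv m rfl h₂ _ rfl F', datum_pb F' φ m _ _ _ _ _ w]

theorem isCocycle_refine (hφ : EtDesc.IsCocycle F' φ) :
    EtDesc.IsCocycle ((EtDesc.pullSh g).obj F') (datumRefine F' φ g hh) := by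
  have w : ∀ (z₁ z₂ : EtDesc.X3 h ⟶ Z), z₁ ≫ h = z₂ ≫ h → (z₁ ≫ g) ≫ f = (z₂ ≫ g) ≫ f := fun z₁ z₂ e => by
    rw [Category.assoc, Category.assoc, hh, e]
  show pb (EtDesc.p12 h) EtDesc.q1 EtDesc.q2 rfl rfl (datumRefine F' φ g hh).hom ≫
    pb (EtDesc.p23 h) EtDesc.q2 EtDesc.q3 EtDesc.p23_fst rfl (datumRefine F' φ g hh).hom =
      pb (EtDesc.p13 h) EtDesc.q1 EtDesc.q3 EtDesc.p13_fst EtDesc.p13_snd (datumRefine F' φ g hh).hom
  have e12 : EtDesc.q1 (f := h) ≫ h = EtDesc.q2 ≫ h :=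
    (Category.assoc _ _ _).trans ((congrArg (_ ≫ ·) pullback.condition).trans (Category.assoc _ _ _).symm)
  have e23 : EtDesc.q2 (f := h) ≫ h = EtDesc.q3 ≫ h :=
    (congrArg (· ≫ h) EtDesc.p23_fst.symm).trans
      ((Category.assoc _ _ _).trans ((congrArg (_ ≫ ·) pullback.condition).trans (Category.assoc _ _ _).symm))
  rw [datumRefine_pb F' φ g hh _ _ _ _ _ (w _ _ e12), datumRefine_pb F' φ g hh _ _ _ _ _ (w _ _ e23),
    datumRefine_pb F' φ g hh _ _ _ _ _ (w _ _ (e12.trans e23))]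
  simp only [Category.assoc, Iso.inv_hom_id_assoc]
  rw [← Category.assoc (datum F' φ _ _ _).hom, datum_trans F' φ hφ _ _ _ _ _ (w _ _ (e12.trans e23))]

section Main

variable (F : EtDesc.Sh X) (ψ : (EtDesc.pullSh h).obj F ≅ (EtDesc.pullSh g).obj F')
  (hψ : ((EtDesc.pullSh (pullback.fst h h)).mapIso ψ).symm ≪≫ EtDesc.canIso h F ≪≫
    (EtDesc.pullSh (pullback.snd h h)).mapIso ψ = datumRefine F' φ g hh)

include hψ in
theorem psi_transition (z₁ z₂ : T ⟶ Z) (c : T ⟶ X) (w₁ : z₁ ≫ h = c) (w₂ : z₂ ≫ h = c) :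
    (EtDesc.pullSh z₁).map ψ.hom ≫ (EtDesc.pullVia z₁ g (z₁ ≫ g) rfl F').hom ≫
      (datum F' φ (z₁ ≫ g) (z₂ ≫ g) (by rw [Category.assoc, Category.assoc, hh, w₁, w₂])).hom =
    (EtDesc.pullVia z₁ h c w₁ F).hom ≫ (EtDesc.pullVia z₂ h c w₂ F).inv ≫
      (EtDesc.pullSh z₂).map ψ.hom ≫ (EtDesc.pullVia z₂ g (z₂ ≫ g) rfl F').hom := by
  have k := congrArg (fun e => pb (pullback.lift z₁ z₂ (w₁.trans w₂.symm)) z₁ z₂ (pullback.lift_fst _ _ _)
    (pullback.lift_snd _ _ _) ((EtDesc.pullSh (pullback.fst h h)).map ψ.hom ≫ e.hom)) hψ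
  simp only [Iso.trans_hom, Iso.symm_hom, Functor.mapIso_inv, Functor.mapIso_hom] at k
  rw [← Functor.map_comp_assoc, Iso.hom_inv_id, CategoryTheory.Functor.map_id, Category.id_comp,
    pb_comp _ (pullback.lift_fst z₁ z₂ (w₁.trans w₂.symm)) (pullback.lift_snd z₁ z₂ (w₁.trans w₂.symm))
      (pullback.lift_snd z₁ z₂ (w₁.trans w₂.symm)),
    pb_comp _ (pullback.lift_fst z₁ z₂ (w₁.trans w₂.symm)) (pullback.lift_fst z₁ z₂ (w₁.trans w₂.symm))
      (pullback.lift_snd z₁ z₂ (w₁.trans w₂.symm)), pb_map, pb_map,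
    datumRefine_pb F' φ g hh _ _ _ _ _ (by rw [Category.assoc, Category.assoc, hh, w₁, w₂]),
    EtDesc.canIso, Iso.trans_hom, Iso.symm_hom,
    pb_comp _ (pullback.lift_fst z₁ z₂ (w₁.trans w₂.symm))
      (show pullback.lift z₁ z₂ (w₁.trans w₂.symm) ≫ pullback.fst h h ≫ h = c from
        ((Category.assoc _ _ _).symm.trans (congrArg (· ≫ h) (pullback.lift_fst _ _ _))).trans w₁)
      (pullback.lift_snd z₁ z₂ (w₁.trans w₂.symm)),
    pb_pullVia _ _ _ _ w₁, pb_pullVia_inv _ _ _ _ w₂] at k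
  rw [← cancel_mono (EtDesc.pullVia z₂ g (z₂ ≫ g) rfl F').inv]
  simp only [Category.assoc, Iso.hom_inv_id, Category.comp_id] at k ⊢
  exact k.symm

/-- The comparison at a point of the refinement and a point of the source over the same point. -/
def alpha (z : T ⟶ Z) (x : T ⟶ X') (c : T ⟶ X) (wz : z ≫ h = c) (wx : x ≫ f = c) :
    (EtDesc.pullSh x).obj ((EtDesc.pullSh f).obj F) ≅ (EtDesc.pullSh x).obj F' :=
  EtDesc.pullVia x f c wx F ≪≫ (EtDesc.pullVia z h c wz F).symm ≪≫ (EtDesc.pullSh z).mapIso ψ ≪≫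
    EtDesc.pullVia z g (z ≫ g) rfl F' ≪≫ datum F' φ (z ≫ g) x (point_w g hh z (wz.trans wx.symm))

theorem alpha_hom (z : T ⟶ Z) (x : T ⟶ X') (c : T ⟶ X) (wz : z ≫ h = c) (wx : x ≫ f = c) :
    (alpha F' φ g hh F ψ z x c wz wx).hom = (EtDesc.pullVia x f c wx F).hom ≫ (EtDesc.pullVia z h c wz F).inv ≫
      (EtDesc.pullSh z).map ψ.hom ≫ (EtDesc.pullVia z g (z ≫ g) rfl F').hom ≫
        (datum F' φ (z ≫ g) x (point_w g hh z (wz.trans wx.symm))).hom := rfl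

theorem alpha_pb (m : T' ⟶ T) (z : T ⟶ Z) (x : T ⟶ X') (c : T ⟶ X) (wz : z ≫ h = c) (wx : x ≫ f = c)
    (z' : T' ⟶ Z) (x' : T' ⟶ X') (c' : T' ⟶ X) (wz' : z' ≫ h = c') (wx' : x' ≫ f = c')
    (mz : m ≫ z = z') (mx : m ≫ x = x') :
    pb m x' x' mx mx (alpha F' φ g hh F ψ z x c wz wx).hom = (alpha F' φ g hh F ψ z' x' c' wz' wx').hom := by
  have mc : m ≫ c = c' := by rw [← wz, reassoc_of% mz, wz']
  have mg : m ≫ z ≫ g = z' ≫ g := by rw [reassoc_of% mz]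
  rw [alpha_hom, alpha_hom, pb_comp m mx mc mx, pb_comp m mc mz mx, pb_comp m mz mz mx, pb_comp m mz mg mx,
    pb_pullVia m wx mx mc wx', pb_pullVia_inv m wz mz mc wz', pb_map, pb_pullVia m rfl mz mg rfl,
    datum_pb F' φ m _ _ _ _ _ (point_w g hh z' (wz'.trans wx'.symm))]

include hψ in
theorem alpha_indep (hφ : EtDesc.IsCocycle F' φ) (z₁ z₂ : T ⟶ Z) (x : T ⟶ X') (c : T ⟶ X)
    (w₁ : z₁ ≫ h = c) (w₂ : z₂ ≫ h = c) (wx : x ≫ f = c) :
    (alpha F' φ g hh F ψ z₁ x c w₁ wx).hom = (alpha F' φ g hh F ψ z₂ x c w₂ wx).hom := by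
  have hw : (z₁ ≫ g) ≫ f = (z₂ ≫ g) ≫ f := by rw [Category.assoc, Category.assoc, hh, w₁, w₂]
  have k := psi_transition F' φ g hh F ψ hψ z₁ z₂ c w₁ w₂
  rw [alpha_hom, alpha_hom, ← datum_trans F' φ hφ (z₁ ≫ g) (z₂ ≫ g) x hw (point_w g hh z₂ (w₂.trans wx.symm)),
    reassoc_of% k, Iso.inv_hom_id_assoc]

theorem alpha_datum (hφ : EtDesc.IsCocycle F' φ) (z : T ⟶ Z) (x₁ x₂ : T ⟶ X') (c : T ⟶ X)
    (wz : z ≫ h = c) (w₁ : x₁ ≫ f = c) (w₂ : x₂ ≫ f = c) :
    (alpha F' φ g hh F ψ z x₁ c wz w₁).hom ≫ (datum F' φ x₁ x₂ (w₁.trans w₂.symm)).hom =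
      (EtDesc.pullVia x₁ f c w₁ F).hom ≫ (EtDesc.pullVia x₂ f c w₂ F).inv ≫
        (alpha F' φ g hh F ψ z x₂ c wz w₂).hom := by
  rw [alpha_hom, alpha_hom]
  simp only [Category.assoc]
  rw [datum_trans F' φ hφ _ _ _ _ _ (point_w g hh z (wz.trans w₂.symm)), Iso.inv_hom_id_assoc]

include hh hψ in
/-- Effectivity from a refinement. -/
theorem isEffective_of_datum [Surjective h] (hsub : SGA1.UnivSubmersive h) (hφ : EtDesc.IsCocycle F' φ) :
    EtDesc.IsEffective f F' φ := by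
  let q := pullback.snd h f
  haveI : Surjective q := MorphismProperty.pullback_snd (P := @Surjective) h f inferInstance
  haveI : SGA1.UnivSubmersive.{u}.IsStableUnderBaseChange :=
    MorphismProperty.universally_isStableUnderBaseChange _
  have hq : EtDesc.IsUnivSubmersive q := fun Y u => by
    have h1 : SGA1.UnivSubmersive q := MorphismProperty.pullback_snd (P := SGA1.UnivSubmersive) h f hsub
    have h2 : Topology.IsQuotientMap (pullback.snd q u).base := h1 _ _ _ (IsPullback.of_hasPullback q u).flip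
    exact ⟨h2.surjective, h2⟩
  let r₁ := pullback.fst q q
  let r₂ := pullback.snd q q
  let z := pullback.fst h f
  let a := alpha F' φ g hh F ψ z q (z ≫ h) rfl pullback.condition.symm
  have hq' : r₁ ≫ q = r₂ ≫ q := pullback.condition
  have hc₁ : (r₁ ≫ z) ≫ h = (r₁ ≫ q) ≫ f := by rw [Category.assoc, Category.assoc, pullback.condition]
  have hc₂ : (r₂ ≫ z) ≫ h = (r₁ ≫ q) ≫ f := by rw [hq', Category.assoc, Category.assoc, pullback.condition]
  have ha : (EtDesc.canIso q ((EtDesc.pullSh f).obj F)).hom ≫ (EtDesc.pullSh r₂).map a.hom =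
      (EtDesc.pullSh r₁).map a.hom ≫ (EtDesc.canIso q F').hom := by
    have e₁ := alpha_pb F' φ g hh F ψ r₁ z q (z ≫ h) rfl pullback.condition.symm (r₁ ≫ z) (r₁ ≫ q) _ hc₁ rfl rfl rfl
    have e₂ := alpha_pb F' φ g hh F ψ r₂ z q (z ≫ h) rfl pullback.condition.symm (r₂ ≫ z) (r₁ ≫ q) _ hc₂ rfl rfl hq'.symm
    have e := e₁.trans ((alpha_indep F' φ g hh F ψ hψ hφ (r₁ ≫ z) (r₂ ≫ z) (r₁ ≫ q) _ hc₁ hc₂ rfl).trans e₂.symm)
    rw [canIso_eq q ((EtDesc.pullSh f).obj F), canIso_eq q F']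
    exact descent_compat r₁ r₂ (r₁ ≫ q) rfl hq'.symm a.hom e
  obtain ⟨β, hβ, -⟩ := Groth.L27.EtSite.DescSections.exists_unique_desc q hq ((EtDesc.pullSh f).obj F) F' a.hom ha
  haveI := reflects_pullSh q
  haveI : IsIso ((EtDesc.pullSh q).map β) := hβ ▸ inferInstance
  haveI : IsIso β := isIso_of_reflects_iso β (EtDesc.pullSh q)
  have hx : ∀ {T : Scheme.{u}} (z' : T ⟶ Z) (x : T ⟶ X') (c : T ⟶ X) (wz : z' ≫ h = c) (wx : x ≫ f = c),
      (EtDesc.pullSh x).map β = (alpha F' φ g hh F ψ z' x c wz wx).hom := fun {T} z' x c wz wx => by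
    let t := pullback.lift z' x (wz.trans wx.symm)
    rw [← pb_map t (pullback.lift_snd z' x (wz.trans wx.symm) : t ≫ q = x) β, hβ]
    exact alpha_pb F' φ g hh F ψ t z q _ rfl pullback.condition.symm z' x c wz wx (pullback.lift_fst _ _ _)
      (pullback.lift_snd _ _ _)
  have key : (EtDesc.pullSh (pullback.fst f f)).map β ≫ φ.hom =
      (EtDesc.canIso f F).hom ≫ (EtDesc.pullSh (pullback.snd f f)).map β := by
    let c₀ := pullback.fst f f ≫ f
    let m := pullback.snd h c₀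
    haveI : Surjective m := MorphismProperty.pullback_snd (P := @Surjective) h c₀ inferInstance
    let z' := pullback.fst h c₀
    let x₁ := m ≫ pullback.fst f f
    let x₂ := m ≫ pullback.snd f f
    have wz : z' ≫ h = m ≫ c₀ := pullback.condition
    have w₁ : x₁ ≫ f = m ≫ c₀ := Category.assoc _ _ _
    have w₂ : x₂ ≫ f = m ≫ c₀ := (Category.assoc _ _ _).trans (congrArg (m ≫ ·) pullback.condition.symm)
    refine pb_injective m (a' := x₁) (b' := x₂) rfl rfl ?_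
    rw [pb_comp m (rfl : m ≫ pullback.fst f f = x₁) rfl rfl, pb_comp m (rfl : m ≫ pullback.fst f f = x₁) rfl rfl,
      pb_map, pb_map, datum_eq_pb F' φ x₁ x₂ (w₁.trans w₂.symm), hx z' x₁ _ wz w₁, hx z' x₂ _ wz w₂,
      alpha_datum F' φ g hh F ψ hφ z' x₁ x₂ _ wz w₁ w₂, EtDesc.canIso, Iso.trans_hom, Iso.symm_hom,
      pb_comp m (rfl : m ≫ pullback.fst f f = x₁) (rfl : m ≫ c₀ = m ≫ c₀) rfl,
      pb_pullVia m _ _ _ w₁, pb_pullVia_inv m _ _ _ w₂, Category.assoc]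
  refine ⟨F, asIso β, Iso.ext ?_⟩
  show (EtDesc.pullSh (pullback.fst f f)).map (inv β) ≫ (EtDesc.canIso f F).hom ≫
    (EtDesc.pullSh (pullback.snd f f)).map β = φ.hom
  rw [← key, ← Functor.map_comp_assoc, IsIso.inv_hom_id, CategoryTheory.Functor.map_id, Category.id_comp]

end Main

include hh in
/-- If descent is effective along `g ≫ f`, it is effective along `f`. -/
theorem isEffective_of_refinement [Surjective h] (hsub : SGA1.UnivSubmersive h) (hφ : EtDesc.IsCocycle F' φ)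
    (H : ∀ (G : EtDesc.Sh Z) (χ : (EtDesc.pullSh (pullback.fst h h)).obj G ≅ (EtDesc.pullSh (pullback.snd h h)).obj G),
      EtDesc.IsCocycle G χ → EtDesc.IsEffective h G χ) : EtDesc.IsEffective f F' φ := by
  obtain ⟨F, ψ, hψ⟩ := H _ (datumRefine F' φ g hh) (isCocycle_refine F' φ g hh hφ)
  exact isEffective_of_datum F' φ g hh F ψ hψ hsub hφ

end Groth.L27.EffDesc
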