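import Groth.Agent.L27.EffDesc.Elements

/-! # Pulling back morphisms between inverse images -/

universe u

open CategoryTheory CategoryTheory.Limits AlgebraicGeometry Opposite

set_option autoImplicit false
set_option backward.isDefEq.respectTransparency.types false
set_option linter.style.haveILetI false

noncomputable section

namespace Groth.L27.EffDesc

open Groth.L27.EtSite

variable {T'' T' T A B C X : Scheme.{u}}

attribute [local irreducible] el

/-- Inverse image along surjective morphisms is faithful. -/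
theorem faithful_pullSh {X' X : Scheme.{u}} (f : X' ⟶ X) [Surjective f] : (EtDesc.pullSh f).Faithful := by
  have pts : ∀ x : X, ∃ (Ω : Type u) (_ : Field Ω) (_ : IsSepClosed Ω) (ξ : Spec (CommRingCat.of Ω) ⟶ X'),
      (ξ ≫ f).base default = x := fun x => by
    obtain ⟨x', rfl⟩ := f.surjective x
    obtain ⟨Ω, _, _, ξ, rfl⟩ := Groth.L27.EtSite.exists_geometric_point x'
    exact ⟨Ω, inferInstance, inferInstance, ξ, rfl⟩
  refine ⟨fun {F G} a b hab => ?_⟩
  suffices Epi (equalizer.ι a b) from (cancel_epi (equalizer.ι a b)).1 (equalizer.condition a b)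
  refine (Sheaf.isLocallySurjective_iff_epi' (φ := equalizer.ι a b)).1
    (Groth.L27.EtSite.isLocallySurjective_of_some_stalks _ fun x => ?_)
  obtain ⟨Ω, _, _, ξ, rfl⟩ := pts x
  refine ⟨Ω, inferInstance, inferInstance, ξ ≫ f, rfl, ?_⟩
  let e := Groth.L27.EtSite.stalkPullShIso f ξ
  have hst : (Scheme.pointSmallEtale (ξ ≫ f)).sheafFiber.map a = (Scheme.pointSmallEtale (ξ ≫ f)).sheafFiber.map b := by
    refine (cancel_epi (e.hom.app F)).1 ?_
    refine (e.hom.naturality a).symm.trans (Eq.trans ?_ (e.hom.naturality b))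
    exact congrArg (fun m => (Scheme.pointSmallEtale ξ).sheafFiber.map m ≫ e.hom.app G) hab
  let Φ := (Scheme.pointSmallEtale (ξ ≫ f)).sheafFiber (A := Type (u + 1))
  have : IsIso (Φ.map (equalizer.ι a b)) := by
    have := equalizer.ι_of_eq hst
    rw [← equalizerComparison_comp_π a b Φ]
    infer_instance
  exact ((CategoryTheory.isIso_iff_bijective _).1 this).2

/-- Inverse image along surjective morphisms reflects isomorphisms. -/
theorem reflects_pullSh {X' X : Scheme.{u}} (f : X' ⟶ X) [Surjective f] :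
    (EtDesc.pullSh f).ReflectsIsomorphisms := by
  have pts : ∀ x : X, ∃ (Ω : Type u) (_ : Field Ω) (_ : IsSepClosed Ω) (ξ : Spec (CommRingCat.of Ω) ⟶ X'),
      (ξ ≫ f).base default = x := fun x => by
    obtain ⟨x', rfl⟩ := f.surjective x
    obtain ⟨Ω, _, _, ξ, rfl⟩ := Groth.L27.EtSite.exists_geometric_point x'
    exact ⟨Ω, inferInstance, inferInstance, ξ, rfl⟩
  refine ⟨fun {F G} φ _ => ?_⟩
  have hb : ∀ x : X, ∃ (Ω : Type u) (_ : Field Ω) (_ : IsSepClosed Ω) (η : Spec (CommRingCat.of Ω) ⟶ X),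
      η.base default = x ∧ Function.Bijective ((Scheme.pointSmallEtale η).presheafFiber.map φ.hom) := fun x => by
    obtain ⟨Ω, _, _, ξ, rfl⟩ := pts x
    refine ⟨Ω, inferInstance, inferInstance, ξ ≫ f, rfl, ?_⟩
    have h1 : IsIso ((EtDesc.pullSh f ⋙ (Scheme.pointSmallEtale ξ).sheafFiber).map φ) := Functor.map_isIso (Scheme.pointSmallEtale ξ).sheafFiber ((EtDesc.pullSh f).map φ)
    exact (CategoryTheory.isIso_iff_bijective _).1 ((NatIso.isIso_map_iff (Groth.L27.EtSite.stalkPullShIso f ξ) φ).1 h1)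
  have : Mono φ := by
    have : Sheaf.IsLocallyInjective φ := Groth.L27.EtSite.isLocallyInjective_of_some_stalks φ.hom fun x => by
      obtain ⟨Ω, _, _, η, hη, h⟩ := hb x
      exact ⟨Ω, inferInstance, inferInstance, η, hη, h.1⟩
    exact Sheaf.mono_of_isLocallyInjective φ
  have : Epi φ := (Sheaf.isLocallySurjective_iff_epi' (φ := φ)).1
    (Groth.L27.EtSite.isLocallySurjective_of_some_stalks φ.hom fun x => by
      obtain ⟨Ω, _, _, η, hη, h⟩ := hb x
      exact ⟨Ω, inferInstance, inferInstance, η, hη, h.2⟩)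
  exact isIso_of_mono_of_epi φ


theorem hom_ext_el' (π : T ⟶ A) (a : A ⟶ X) (F : EtDesc.Sh X) {H : EtDesc.Sh T}
    {α β : (EtDesc.pullSh π).obj ((EtDesc.pullSh a).obj F) ⟶ H}
    (h : ∀ (W : T.Etale) (U : A.Etale) (V : X.Etale) (l : W.left ⟶ U.left) (hl : l ≫ U.hom = W.hom ≫ π)
      (k : U.left ⟶ V.left) (hk : k ≫ V.hom = U.hom ≫ a) (s : F.obj.obj (op V)),
      α.hom.app (op W) (el π ((EtDesc.pullSh a).obj F) l hl (el a F k hk s)) =
        β.hom.app (op W) (el π ((EtDesc.pullSh a).obj F) l hl (el a F k hk s))) : α = β := by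
  refine ((EtDesc.adjSh π).homEquiv _ _).injective ?_
  rw [Adjunction.homEquiv_unit, Adjunction.homEquiv_unit]
  refine hom_ext_el a F fun U V k hk s => ?_
  show α.hom.app _ (DescCan.se π _ U (el a F k hk s)) = β.hom.app _ (DescCan.se π _ U (el a F k hk s))
  rw [el_se]
  exact h _ U V _ _ k hk s

theorem hom_ext_el'' (m : T' ⟶ T) (π : T ⟶ A) (a : A ⟶ X) (F : EtDesc.Sh X) {H : EtDesc.Sh T'}
    {α β : (EtDesc.pullSh m).obj ((EtDesc.pullSh π).obj ((EtDesc.pullSh a).obj F)) ⟶ H}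
    (h : ∀ (W : T'.Etale) (U : T.Etale) (V : A.Etale) (V' : X.Etale)
      (j : W.left ⟶ U.left) (hj : j ≫ U.hom = W.hom ≫ m) (l : U.left ⟶ V.left) (hl : l ≫ V.hom = U.hom ≫ π)
      (k : V.left ⟶ V'.left) (hk : k ≫ V'.hom = V.hom ≫ a) (s : F.obj.obj (op V')),
      α.hom.app (op W) (el m ((EtDesc.pullSh π).obj ((EtDesc.pullSh a).obj F)) j hj
          (el π ((EtDesc.pullSh a).obj F) l hl (el a F k hk s))) =
        β.hom.app (op W) (el m ((EtDesc.pullSh π).obj ((EtDesc.pullSh a).obj F)) j hj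
          (el π ((EtDesc.pullSh a).obj F) l hl (el a F k hk s)))) : α = β := by
  refine ((EtDesc.adjSh m).homEquiv _ _).injective ?_
  rw [Adjunction.homEquiv_unit, Adjunction.homEquiv_unit]
  refine hom_ext_el' π a F fun U V V' l hl k hk s => ?_
  show α.hom.app _ (DescCan.se m _ U (el π _ l hl (el a F k hk s))) =
    β.hom.app _ (DescCan.se m _ U (el π _ l hl (el a F k hk s)))
  rw [el_se]
  exact h _ U V V' _ _ l hl k hk s

/-- Associativity of the transport of inverse images. -/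
theorem pullVia_assoc (m : T' ⟶ T) (a : T ⟶ A) (u : A ⟶ X) (c : T ⟶ X) (w : a ≫ u = c) (a' : T' ⟶ A)
    (wa : m ≫ a = a') (c' : T' ⟶ X) (wc : m ≫ c = c') (wu : a' ≫ u = c') (F : EtDesc.Sh X) :
    (EtDesc.pullSh m).map (EtDesc.pullVia a u c w F).hom ≫ (EtDesc.pullVia m c c' wc F).hom =
      (EtDesc.pullVia m a a' wa ((EtDesc.pullSh u).obj F)).hom ≫ (EtDesc.pullVia a' u c' wu F).hom := by
  refine hom_ext_el'' m a u F fun W U V V' j hj l hl k hk s => ?_
  have hlk : (l ≫ k) ≫ V'.hom = U.hom ≫ c := by rw [Category.assoc, hk, reassoc_of% hl, w]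
  have hjl : (j ≫ l) ≫ V.hom = W.hom ≫ a' := by rw [Category.assoc, hl, reassoc_of% hj, wa]
  have h1 : (j ≫ l ≫ k) ≫ V'.hom = W.hom ≫ c' := by rw [Category.assoc, hlk, reassoc_of% hj, wc]
  have h2 : ((j ≫ l) ≫ k) ≫ V'.hom = W.hom ≫ c' := by rw [Category.assoc j l k]; exact h1
  calc _ = (EtDesc.pullVia m c c' wc F).hom.hom.app (op W)
        (((EtDesc.pullSh m).map (EtDesc.pullVia a u c w F).hom).hom.app (op W)
          (el m _ j hj (el a ((EtDesc.pullSh u).obj F) l hl (el u F k hk s)))) := rfl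
    _ = (EtDesc.pullVia m c c' wc F).hom.hom.app (op W) (el m _ j hj (el c F (l ≫ k) hlk s)) :=
        congrArg _ ((app_el m _ _ j hj _).trans (congrArg (el m _ j hj) (pullVia_el a u c w F l hl k hk hlk s)))
    _ = el c' F (j ≫ l ≫ k) h1 s := pullVia_el m c c' wc F j hj (l ≫ k) hlk h1 s
    _ = el c' F ((j ≫ l) ≫ k) h2 s := el_congr c' F h1 h2 (Category.assoc _ _ _).symm s
    _ = (EtDesc.pullVia a' u c' wu F).hom.hom.app (op W) (el a' _ (j ≫ l) hjl (el u F k hk s)) :=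
        (pullVia_el a' u c' wu F (j ≫ l) hjl k hk h2 s).symm
    _ = _ := congrArg ((EtDesc.pullVia a' u c' wu F).hom.hom.app (op W))
        (pullVia_el m a a' wa ((EtDesc.pullSh u).obj F) j hj l hl hjl (el u F k hk s)).symm

/-- Pull a morphism between inverse images back along `m`. -/
def pb (m : T' ⟶ T) {a : T ⟶ A} {b : T ⟶ B} (a' : T' ⟶ A) (b' : T' ⟶ B) (wa : m ≫ a = a') (wb : m ≫ b = b')
    {G : EtDesc.Sh A} {H : EtDesc.Sh B} (χ : (EtDesc.pullSh a).obj G ⟶ (EtDesc.pullSh b).obj H) :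
    (EtDesc.pullSh a').obj G ⟶ (EtDesc.pullSh b').obj H :=
  (EtDesc.pullVia m a a' wa G).inv ≫ (EtDesc.pullSh m).map χ ≫ (EtDesc.pullVia m b b' wb H).hom

section

variable (m : T' ⟶ T) {a : T ⟶ A} {b : T ⟶ B} {c : T ⟶ C} {a' : T' ⟶ A} {b' : T' ⟶ B} {c' : T' ⟶ C}
  (wa : m ≫ a = a') (wb : m ≫ b = b') (wc : m ≫ c = c') {G : EtDesc.Sh A} {H : EtDesc.Sh B} {K : EtDesc.Sh C}

theorem pb_comp (χ : (EtDesc.pullSh a).obj G ⟶ (EtDesc.pullSh b).obj H)
    (ξ : (EtDesc.pullSh b).obj H ⟶ (EtDesc.pullSh c).obj K) :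
    pb m a' c' wa wc (χ ≫ ξ) = pb m a' b' wa wb χ ≫ pb m b' c' wb wc ξ := by
  simp only [pb, Category.assoc, Iso.hom_inv_id_assoc, Functor.map_comp]

theorem pb_id : pb m a' a' wa wa (𝟙 ((EtDesc.pullSh a).obj G)) = 𝟙 _ := by
  simp only [pb, CategoryTheory.Functor.map_id, Category.id_comp, Iso.inv_hom_id]

theorem pb_map {G' : EtDesc.Sh A} (η : G ⟶ G') :
    pb m a' a' wa wa ((EtDesc.pullSh a).map η) = (EtDesc.pullSh a').map η := by
  rw [pb, ← DescCan.pullVia_nat m a a' wa η, Iso.inv_hom_id_assoc]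

theorem pb_iso (e : (EtDesc.pullSh a).obj G ≅ (EtDesc.pullSh b).obj H)
    (e' : (EtDesc.pullSh a').obj G ≅ (EtDesc.pullSh b').obj H) (h : pb m a' b' wa wb e.hom = e'.hom) :
    pb m b' a' wb wa e.inv = e'.inv := by
  rw [← cancel_epi e'.hom, Iso.hom_inv_id, ← h, ← pb_comp, Iso.hom_inv_id, pb_id]

theorem pb_injective [Surjective m] :
    Function.Injective (pb m a' b' wa wb : ((EtDesc.pullSh a).obj G ⟶ (EtDesc.pullSh b).obj H) → _) := by
  intro χ ξ h
  simp only [pb, cancel_epi, cancel_mono] at h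
  exact (Groth.L27.EffDesc.faithful_pullSh m).map_injective h

end

theorem pb_congr {m m' : T' ⟶ T} (e : m = m') {a : T ⟶ A} {b : T ⟶ B} {a' : T' ⟶ A} {b' : T' ⟶ B}
    (wa : m ≫ a = a') (wb : m ≫ b = b') (wa' : m' ≫ a = a') (wb' : m' ≫ b = b') {G : EtDesc.Sh A}
    {H : EtDesc.Sh B} (χ : (EtDesc.pullSh a).obj G ⟶ (EtDesc.pullSh b).obj H) :
    pb m a' b' wa wb χ = pb m' a' b' wa' wb' χ := by
  subst e; rfl

theorem pb_pb (n : T'' ⟶ T') (m : T' ⟶ T) (k : T'' ⟶ T) (wk : n ≫ m = k) {a : T ⟶ A} {b : T ⟶ B}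
    {a' : T' ⟶ A} {b' : T' ⟶ B} {a'' : T'' ⟶ A} {b'' : T'' ⟶ B} (wa : m ≫ a = a') (wb : m ≫ b = b')
    (wa' : n ≫ a' = a'') (wb' : n ≫ b' = b'') (wka : k ≫ a = a'') (wkb : k ≫ b = b'')
    {G : EtDesc.Sh A} {H : EtDesc.Sh B} (χ : (EtDesc.pullSh a).obj G ⟶ (EtDesc.pullSh b).obj H) :
    pb n a'' b'' wa' wb' (pb m a' b' wa wb χ) = pb k a'' b'' wka wkb χ := by
  have hA := pullVia_assoc n m a a' wa k wk a'' wa' wka G
  have hB := pullVia_assoc n m b b' wb k wk b'' wb' wkb H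
  rw [← cancel_epi (((EtDesc.pullSh n).map (EtDesc.pullVia m a a' wa G).hom) ≫
    (EtDesc.pullVia n a' a'' wa' G).hom)]
  conv_rhs => rw [hA]
  simp only [pb, Category.assoc, Iso.hom_inv_id_assoc]
  rw [← Functor.map_comp_assoc, Iso.hom_inv_id_assoc, Functor.map_comp_assoc, hB,
    ← Category.assoc, ← Category.assoc ((EtDesc.pullVia n m k wk ((EtDesc.pullSh a).obj G)).hom)]
  congr 1
  exact (DescCan.pullVia_nat n m k wk χ).symm

/-- Transports are compatible with pulling back. -/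
theorem pb_pullVia (m : T' ⟶ T) {a : T ⟶ A} {u : A ⟶ X} {c : T ⟶ X} (w : a ≫ u = c) {a' : T' ⟶ A}
    {c' : T' ⟶ X} (wa : m ≫ a = a') (wc : m ≫ c = c') (wu : a' ≫ u = c') (F : EtDesc.Sh X) :
    pb m a' c' wa wc (EtDesc.pullVia a u c w F).hom = (EtDesc.pullVia a' u c' wu F).hom := by
  rw [pb, pullVia_assoc m a u c w a' wa c' wc wu F, Iso.inv_hom_id_assoc]

theorem pb_pullVia_inv (m : T' ⟶ T) {a : T ⟶ A} {u : A ⟶ X} {c : T ⟶ X} (w : a ≫ u = c) {a' : T' ⟶ A}
    {c' : T' ⟶ X} (wa : m ≫ a = a') (wc : m ≫ c = c') (wu : a' ≫ u = c') (F : EtDesc.Sh X) :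
    pb m c' a' wc wa (EtDesc.pullVia a u c w F).inv = (EtDesc.pullVia a' u c' wu F).inv :=
  pb_iso m wa wc (EtDesc.pullVia a u c w F) (EtDesc.pullVia a' u c' wu F) (pb_pullVia m w wa wc wu F)

end Groth.L27.EffDesc
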