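import Groth.Agent.L27.EffDesc.Fppf
import Groth.Agent.L27.EffDesc.Acyclic
import Groth.Agent.L27.Acyclic0.ZeroAcyclic
import Groth.Agent.L27.Acyclic0.Converse
import Groth.Agent.L27.Acyclic0.BaseChange

/-! # Universal effective descent along flat morphisms with separable fibres -/

universe u

open CategoryTheory CategoryTheory.Limits AlgebraicGeometry Opposite TopologicalSpace

set_option autoImplicit false
set_option backward.isDefEq.respectTransparency.types false
set_option linter.style.haveILetI false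
set_option maxHeartbeats 800000

noncomputable section

namespace Groth.L27.EffDesc

/-- Properties local on the target pass to coproducts of morphisms. -/
theorem sigmaMap_of_local {P : MorphismProperty Scheme.{u}} [IsZariskiLocalAtTarget P] {J : Type u}
    {S U : J → Scheme.{u}} (π : ∀ j, S j ⟶ U j) (hπ : ∀ j, P (π j)) : P (Limits.Sigma.map π) := by
  refine IsZariskiLocalAtTarget.of_openCover (sigmaOpenCover U) fun j => ?_
  have w : Sigma.ι S j ≫ Limits.Sigma.map π = π j ≫ Sigma.ι U j := Sigma.ι_map π j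
  have hp : IsPullback (π j) (Sigma.ι S j) (Sigma.ι U j) (Limits.Sigma.map π) := by
    refine IsOpenImmersion.isPullback _ _ _ _ w (TopologicalSpace.Opens.ext (Set.ext fun z => ?_))
    obtain ⟨k, p, rfl⟩ : ∃ k p, Sigma.ι S k p = z := (sigmaOpenCover S).exists_eq z
    constructor
    · rintro ⟨x, hx⟩
      have hp' : Sigma.ι U k (π k p) = Limits.Sigma.map π (Sigma.ι S k p) := by
        rw [← Scheme.Hom.comp_apply, ← Scheme.Hom.comp_apply, Sigma.ι_map π k]
      obtain rfl : k = j := by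
        by_contra hne
        exact (disjoint_opensRange_sigmaι U k j hne).le_bot (x := Sigma.ι U k (π k p))
          ⟨⟨_, rfl⟩, ⟨x, hx.trans hp'.symm⟩⟩
      exact ⟨p, rfl⟩
    · rintro ⟨q, hq⟩
      refine ⟨π j q, ?_⟩
      rw [← hq, ← Scheme.Hom.comp_apply, ← Scheme.Hom.comp_apply, w]
  show P (pullback.snd (Limits.Sigma.map π) (Sigma.ι U j))
  rw [← hp.flip.isoPullback_inv_snd]
  exact (P.cancel_left_of_respectsIso _ _).2 (hπ j)

/-- Fibres of a map out of a coproduct are reduced when those of the components are. -/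
theorem isReduced_pullback_sigmaDesc {ι : Type u} {Z : ι → Scheme.{u}} {W K : Scheme.{u}} (φ : ∀ i, Z i ⟶ W)
    (k : K ⟶ W) (H : ∀ i, AlgebraicGeometry.IsReduced (pullback (φ i) k)) :
    AlgebraicGeometry.IsReduced (pullback (Sigma.desc φ) k) := by
  haveI : ∀ i, AlgebraicGeometry.IsReduced
      ((Scheme.Pullback.openCoverOfLeft (sigmaOpenCover Z) (Sigma.desc φ) k).X i) := fun i => by
    haveI := H i
    exact isReduced_of_isOpenImmersion (pullback.congrHom (Sigma.ι_desc φ i) (rfl : k = k)).hom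
  exact IsReduced.of_openCover _ (Scheme.Pullback.openCoverOfLeft (sigmaOpenCover Z) (Sigma.desc φ) k)

/-- Fibre products over a monomorphism. -/
theorem isPullback_comp_mono {A B C D : Scheme.{u}} (f : A ⟶ C) (g : B ⟶ C) (m : C ⟶ D) [Mono m] :
    IsPullback (pullback.fst f g) (pullback.snd f g) (f ≫ m) (g ≫ m) :=
  IsPullback.of_isLimit' ⟨by rw [reassoc_of% (pullback.condition (f := f) (g := g))]⟩
    (PullbackCone.isLimitOfCompMono f g m _ (pullback.isLimit f g))

/-- Effective descent along quasi-compact quasi-separated surjections that are universally 0-acyclic. -/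
theorem isEffective_of_uLocZeroAcyclic {X Y X₁ Y₁ : Scheme.{u}} (g : X ⟶ Y) (hg : EtAcyc.IsULocZeroAcyclic g)
    (g₁ : X₁ ⟶ Y₁) [Surjective g₁] [QuasiCompact g₁] [QuasiSeparated g₁] (b' : X₁ ⟶ X) (b : Y₁ ⟶ Y)
    (h : IsPullback b' g₁ g b) (F' : EtDesc.Sh X₁)
    (φ : (EtDesc.pullSh (pullback.fst g₁ g₁)).obj F' ≅ (EtDesc.pullSh (pullback.snd g₁ g₁)).obj F')
    (hφ : EtDesc.IsCocycle F' φ) : EtDesc.IsEffective g₁ F' φ := by
  have hg₁ : EtAcyc.IsULocZeroAcyclic g₁ := fun X₂ Y₂ g₂ c' c hc => hg g₂ (c' ≫ b') (c ≫ b) (hc.paste_horiz h)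
  exact isEffective_of_shConnected g₁ (Acyclic0.shSubmersive_of_isULocZeroAcyclic g₁ hg₁)
    (Acyclic0.shConnected_of_isULocZeroAcyclic g₁ hg₁) F' φ hφ

/-- Affine refinements of universally open surjections over an affine covering. -/
theorem exists_finite_affines {X Y : Scheme.{u}} (g : X ⟶ Y) [UniversallyOpen g] [Surjective g] {V : Scheme.{u}}
    [IsAffine V] (v : V ⟶ Y) [IsOpenImmersion v] :
    ∃ (n : Type u) (_ : Finite n) (U : n → X.Opens), (∀ i, IsAffineOpen (U i)) ∧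
      (∀ i, U i ≤ g ⁻¹ᵁ v.opensRange) ∧ ∀ y : V, ∃ i, ∃ x ∈ U i, g x = v y := by
  let I := {U : X.affineOpens // (U : X.Opens) ≤ g ⁻¹ᵁ v.opensRange}
  let O : I → Set V := fun U => v ⁻¹' (g '' (U.1 : X.Opens))
  have hO : ∀ U, IsOpen (O U) := fun U => (g.isOpenMap _ U.1.1.2).preimage v.continuous
  have hcov : (Set.univ : Set V) ⊆ ⋃ U, O U := fun y _ => by
    obtain ⟨x, hx⟩ := g.surjective (v y)
    obtain ⟨U, hU, hxU, hle⟩ := exists_isAffineOpen_mem_and_subset (X := X) (x := x) (U := g ⁻¹ᵁ v.opensRange)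
      ⟨y, hx.symm⟩
    exact Set.mem_iUnion.2 ⟨⟨⟨U, hU⟩, hle⟩, x, hxU, hx⟩
  obtain ⟨t, ht⟩ := isCompact_univ.elim_finite_subcover O hO hcov
  refine ⟨↥t, inferInstance, fun i => i.1.1, fun i => i.1.1.2, fun i => i.1.2, fun y => ?_⟩
  obtain ⟨U, hU, x, hx, hxy⟩ := Set.mem_iUnion₂.1 (ht (Set.mem_univ y))
  exact ⟨⟨U, hU⟩, x, hx, hxy⟩

/-- The universally open case. -/
theorem isEffective_of_univOpen {X Y X₁ Y₁ : Scheme.{u}} (g : X ⟶ Y) [Surjective g] [Flat g]
    [UniversallyOpen g] [IsLocallyNoetherian X] [IsLocallyNoetherian Y]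
    (hsep : ∀ (K : Type u) [Field K] (k : Spec (CommRingCat.of K) ⟶ Y), AlgebraicGeometry.IsReduced (pullback g k))
    (g₁ : X₁ ⟶ Y₁) (b' : X₁ ⟶ X) (b : Y₁ ⟶ Y)
    (h : IsPullback b' g₁ g b) (F' : EtDesc.Sh X₁)
    (φ : (EtDesc.pullSh (pullback.fst g₁ g₁)).obj F' ≅ (EtDesc.pullSh (pullback.snd g₁ g₁)).obj F')
    (hφ : EtDesc.IsCocycle F' φ) : EtDesc.IsEffective g₁ F' φ := by
  let 𝒰 := Y.affineCover
  choose n hn U hU hle hcov using fun j => exists_finite_affines g (𝒰.f j)
  haveI : ∀ j, Finite (n j) := hn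
  have hrange : ∀ j i, Set.range ((U j i).ι ≫ g) ⊆ Set.range (𝒰.f j) := by
    rintro j i _ ⟨x, rfl⟩
    exact hle j i x.2
  let u : ∀ j i, (U j i : Scheme.{u}) ⟶ 𝒰.X j := fun j i =>
    IsOpenImmersion.lift (𝒰.f j) ((U j i).ι ≫ g) (hrange j i)
  have hu : ∀ j i, IsPullback (u j i) (𝟙 _) (𝒰.f j) ((U j i).ι ≫ g) := fun j i =>
    IsOpenImmersion.isPullback_lift_id ((U j i).ι ≫ g) (𝒰.f j) (hrange j i)
  let W : 𝒰.I₀ → Scheme.{u} := 𝒰.X
  let Zj : 𝒰.I₀ → Scheme.{u} := fun j => ∐ fun i : n j => (U j i : Scheme.{u})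
  let aj : ∀ j, Zj j ⟶ W j := fun j => Sigma.desc (u j)
  let a : (∐ Zj) ⟶ ∐ W := Limits.Sigma.map aj
  let e : (∐ W) ⟶ Y := Sigma.desc 𝒰.f
  let q : (∐ Zj) ⟶ X := Sigma.desc fun j => Sigma.desc fun i => (U j i).ι
  have hq : q ≫ g = a ≫ e := Sigma.hom_ext _ _ fun j => Sigma.hom_ext _ _ fun i => by
    simp only [q, a, e, W, aj, u, Sigma.ι_desc_assoc, Sigma.ι_map_assoc, Sigma.ι_desc, IsOpenImmersion.lift_fac]
  haveI : ∀ j i, IsAffine (U j i : Scheme.{u}) := fun j i => hU j i
  haveI : ∀ j, IsAffine (W j) := fun j => inferInstanceAs (IsAffine (𝒰.X j))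
  haveI : IsAffineHom a := sigmaMap_of_local (P := @IsAffineHom) aj fun j => inferInstance
  haveI hfu : ∀ j i, Flat (u j i) := fun j i =>
    MorphismProperty.of_isPullback (P := @Flat) (hu j i).flip inferInstance
  haveI : Flat a := sigmaMap_of_local (P := @Flat) aj fun j => IsZariskiLocalAtSource.sigmaDesc (hfu j)
  haveI : Surjective a := ⟨fun z => by
    obtain ⟨j, y, rfl⟩ : ∃ j y, Sigma.ι W j y = z := (sigmaOpenCover W).exists_eq z
    obtain ⟨i, x, hx, hxy⟩ := hcov j y
    refine ⟨Sigma.ι Zj j (Sigma.ι (fun i : n j => (U j i : Scheme.{u})) i ⟨x, hx⟩), ?_⟩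
    rw [← Scheme.Hom.comp_apply, Sigma.ι_map, Scheme.Hom.comp_apply, ← Scheme.Hom.comp_apply _ (aj j), Sigma.ι_desc]
    refine congrArg _ ((𝒰.f j).isOpenEmbedding.injective ?_)
    rw [← Scheme.Hom.comp_apply, IsOpenImmersion.lift_fac, ← hxy]
    rfl⟩
  haveI : Etale e := IsZariskiLocalAtSource.sigmaDesc (P := @Etale) fun j => inferInstance
  haveI : Surjective e := ⟨fun x => by
    obtain ⟨j, y, rfl⟩ := 𝒰.exists_eq x
    refine ⟨Sigma.ι W j y, ?_⟩
    rw [← Scheme.Hom.comp_apply, Sigma.ι_desc]⟩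
  haveI : IsLocallyNoetherian (∐ W) := LocallyOfFiniteType.isLocallyNoetherian e
  haveI : IsLocallyNoetherian (∐ Zj) := by
    haveI : LocallyOfFiniteType q := IsZariskiLocalAtSource.sigmaDesc (P := @LocallyOfFiniteType) fun j =>
      IsZariskiLocalAtSource.sigmaDesc (P := @LocallyOfFiniteType) fun i => inferInstance
    exact LocallyOfFiniteType.isLocallyNoetherian q
  have hsepa : ∀ (K : Type u) [Field K] (k : Spec (CommRingCat.of K) ⟶ ∐ W),
      AlgebraicGeometry.IsReduced (pullback a k) := by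
    intro K _ k
    obtain ⟨l, y, hy⟩ : ∃ l y, Sigma.ι W l y = k default := (sigmaOpenCover W).exists_eq _
    have hk : Set.range k ⊆ Set.range (Sigma.ι W l) := by
      rintro _ ⟨p, rfl⟩
      exact ⟨y, hy.trans (congrArg k (Subsingleton.elim _ _))⟩
    have ha : a = Sigma.desc fun j => aj j ≫ Sigma.ι W j :=
      Sigma.hom_ext _ _ fun j => (Sigma.ι_map aj j).trans (Sigma.ι_desc (fun j => aj j ≫ Sigma.ι W j) j).symm
    rw [ha]
    refine isReduced_pullback_sigmaDesc _ k fun j => ?_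
    rw [show aj j ≫ Sigma.ι W j = Sigma.desc (fun i => u j i ≫ Sigma.ι W j) from
      Sigma.hom_ext _ _ fun i => by simp only [aj, Sigma.ι_desc_assoc, Sigma.ι_desc]]
    refine isReduced_pullback_sigmaDesc _ k fun i => ?_
    by_cases hj : j = l
    · subst hj
      let k' := IsOpenImmersion.lift (Sigma.ι W j) k hk
      have h0 := hsep K (k' ≫ 𝒰.f j)
      haveI : AlgebraicGeometry.IsReduced (pullback ((U j i).ι ≫ g) (k' ≫ 𝒰.f j)) :=
        isReduced_of_isOpenImmersion
          (pullback.map ((U j i).ι ≫ g) (k' ≫ 𝒰.f j) g (k' ≫ 𝒰.f j) (U j i).ι (𝟙 _) (𝟙 _) (by simp) (by simp))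
      have e1 : (U j i).ι ≫ g = u j i ≫ 𝒰.f j := (IsOpenImmersion.lift_fac _ _ _).symm
      have p1 : IsPullback (pullback.fst (u j i) k') (pullback.snd (u j i) k') (u j i ≫ Sigma.ι W j) k := by
        have := isPullback_comp_mono (u j i) k' (Sigma.ι W j)
        rwa [IsOpenImmersion.lift_fac] at this
      have p2 : IsPullback (pullback.fst (u j i) k') (pullback.snd (u j i) k') ((U j i).ι ≫ g) (k' ≫ 𝒰.f j) := by
        rw [e1]
        exact isPullback_comp_mono (u j i) k' (𝒰.f j)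
      haveI : AlgebraicGeometry.IsReduced (pullback (u j i) k') := isReduced_of_isOpenImmersion p2.isoPullback.hom
      exact isReduced_of_isOpenImmersion p1.isoPullback.inv
    · haveI : IsEmpty ↑(pullback (u j i ≫ Sigma.ι W j) k) := ⟨fun p => by
        have h1 := congrArg (fun m => m p) (pullback.condition (f := u j i ≫ Sigma.ι W j) (g := k))
        simp only [Scheme.Hom.comp_apply] at h1
        exact (disjoint_opensRange_sigmaι W j l hj).le_bot
          (x := k (pullback.snd (u j i ≫ Sigma.ι W j) k p)) ⟨⟨_, h1⟩, hk ⟨_, rfl⟩⟩⟩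
      haveI : ∀ x : ↑(pullback (u j i ≫ Sigma.ι W j) k),
          _root_.IsReduced ((pullback (u j i ≫ Sigma.ι W j) k).presheaf.stalk x) := fun x => isEmptyElim x
      exact isReduced_of_isReduced_stalk _
  have hz : EtAcyc.IsULocZeroAcyclic a :=
    Acyclic0.isULocZeroAcyclic_of_flat_geomReduced a hsepa (Or.inl ⟨inferInstance, inferInstance⟩)
  let p := pullback.fst e b
  let e₁ := pullback.snd e b
  let a₁ := pullback.snd a p
  let t : pullback a p ⟶ X₁ := h.lift (pullback.fst a p ≫ q) (a₁ ≫ e₁)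
    (by simp only [a₁, p, e₁, Category.assoc, hq, pullback.condition_assoc, pullback.condition])
  have ht : t ≫ g₁ = a₁ ≫ e₁ := h.lift_snd _ _ _
  haveI : Etale e₁ := MorphismProperty.pullback_snd (P := @Etale) _ _ ‹_›
  haveI : Surjective e₁ := MorphismProperty.pullback_snd (P := @Surjective) _ _ ‹_›
  haveI : IsAffineHom a₁ := MorphismProperty.pullback_snd (P := @IsAffineHom) _ _ ‹_›
  haveI : Flat a₁ := MorphismProperty.pullback_snd (P := @Flat) _ _ ‹_›
  haveI : Surjective a₁ := MorphismProperty.pullback_snd (P := @Surjective) _ _ ‹_›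
  have hh : SGA1.UnivSubmersive (a₁ ≫ e₁) := by
    haveI : SGA1.UnivSubmersive.{u}.IsStableUnderComposition :=
      MorphismProperty.IsStableUnderComposition.universally (hP := ⟨fun f g hf hg => hg.comp hf⟩)
    exact MorphismProperty.comp_mem _ _ _ (TopInv.univSubmersive_of_fpqc a₁) (univSubmersive_of_universallyOpen e₁)
  exact isEffective_of_refinement F' φ t ht hh hφ fun G χ hχ =>
    isEffective_comp a₁ e₁ rfl G χ (TopInv.univSubmersive_of_fpqc a₁)
      (fun χ hχ => isEffective_of_uLocZeroAcyclic a hz a₁ (pullback.fst a p) p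
        (IsPullback.of_hasPullback a p) G χ hχ)
      (fun G χ hχ => isEffective_of_etale e₁ G χ hχ) hχ

/-- Flat surjections with separable fibres are morphisms of universal effective descent. -/
theorem isEffective_of_separable_fibres {X Y : Scheme.{u}} (g : X ⟶ Y) [Surjective g] [Flat g]
    (hsep : ∀ (K : Type u) [Field K] (k : Spec (CommRingCat.of K) ⟶ Y), AlgebraicGeometry.IsReduced (pullback g k))
    (h : (IsLocallyNoetherian X ∧ IsLocallyNoetherian Y ∧ ((QuasiCompact g ∧ QuasiSeparated g) ∨ UniversallyOpen g)) ∨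
      LocallyOfFinitePresentation g) {X₁ Y₁ : Scheme.{u}} (g₁ : X₁ ⟶ Y₁) (b' : X₁ ⟶ X) (b : Y₁ ⟶ Y)
    (hsq : IsPullback b' g₁ g b) (F' : EtDesc.Sh X₁)
    (φ : (EtDesc.pullSh (pullback.fst g₁ g₁)).obj F' ≅ (EtDesc.pullSh (pullback.snd g₁ g₁)).obj F')
    (hφ : EtDesc.IsCocycle F' φ) : EtDesc.IsEffective g₁ F' φ := by
  haveI : Surjective g₁ := MorphismProperty.of_isPullback (P := @Surjective) hsq ‹_›
  haveI : Flat g₁ := MorphismProperty.of_isPullback (P := @Flat) hsq ‹_›
  rcases h with ⟨hX, hY, ⟨hqc, hqs⟩ | ho⟩ | hfp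
  · haveI : QuasiCompact g₁ := MorphismProperty.of_isPullback (P := @QuasiCompact) hsq hqc
    haveI : QuasiSeparated g₁ := MorphismProperty.of_isPullback (P := @QuasiSeparated) hsq hqs
    exact isEffective_of_uLocZeroAcyclic g
      (Acyclic0.isULocZeroAcyclic_of_flat_geomReduced g hsep (Or.inl ⟨hX, hY⟩)) g₁ b' b hsq F' φ hφ
  · exact isEffective_of_univOpen g hsep g₁ b' b hsq F' φ hφ
  · haveI : LocallyOfFinitePresentation g₁ :=
      MorphismProperty.of_isPullback (P := @LocallyOfFinitePresentation) hsq hfp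
    exact isEffective_of_fppf g₁ F' φ hφ

end Groth.L27.EffDesc
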